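import Groth.Agent.Vancyc.H685.EvenHC
import Groth.Agent.Vancyc.H263.PunctStd

/-!
# The middle cohomology of the standard even quadric over a separably closed field

`hL` is `Groth.Agent.Sga4B.PurityMainB.stmtLine N`.
-/

set_option autoImplicit false
universe u
open CategoryTheory CategoryTheory.Limits AlgebraicGeometry Opposite

namespace Groth.Agent.Vancyc.H685.EvenTop

open Groth.Agent.Etcore.EtInst Groth.Agent.Vancyc.H685 Groth.Agent.Vancyc.H685.StdModel
  Groth.Agent.Sga4B.PureStmt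

variable {Ω : Type u} [Field Ω] [IsSepClosed Ω] {N : ℕ}

/-- Affine space over a separably closed field has no cohomology in positive degrees. -/
theorem subsingleton_HH_aff (hN : (N : Ω) ≠ 0) (m q : ℕ) (hq : 0 < q) :
    Subsingleton (HH (Spec (CommRingCat.of (MvPolynomial (Fin m) Ω))) (EtCoh.const _ (ZMod N)) q) :=
  Groth.Agent.Vancyc.H263.PunctAff.subsingleton_H_of_isAff
    (p := Spec.map (CommRingCat.ofHom (algebraMap Ω (MvPolynomial (Fin m) Ω))))
    (Groth.Agent.Vancyc.H263.LinearFib.isAff_of_algEquiv AlgEquiv.refl) hN q hq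

/-- The middle cohomology of the standard even quadric. -/
theorem nonempty_HH_top (hL : StmtLine.{u} N) (hN : (N : Ω) ≠ 0) (m : ℕ) (hm : 0 < m) :
    Nonempty (HH (Spec (CommRingCat.of (stdRing Ω m))) (EtCoh.const _ (ZMod N)) (2 * m) ≃+ ZMod N) := by
  obtain ⟨e⟩ := (Groth.Agent.Vancyc.H263.PunctStd.punct_std hL hN m hm).2.1
  have hq : 2 * m = (2 * m - 1) + 1 := by omega
  obtain ⟨e'⟩ := EvenHC.nonempty_HC (MvPolynomial (Fin m) Ω) (fun i : Fin m => MvPolynomial.X i)
    (EvenHC.isUnit_mv Ω m (IsUnit.mk0 _ hN)) (2 * m - 1)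
    (subsingleton_HH_aff hN m _ (by omega)) (subsingleton_HH_aff hN m _ (by omega))
  rw [hq]
  have e'' : HH (QuadGeom.T₀ (MvPolynomial (Fin m) Ω) (fun i : Fin m => MvPolynomial.X i))
      (EtCoh.const _ (ZMod N)) (2 * m - 1) ≃+ ZMod N := e
  exact ⟨e'.symm.trans e''⟩

theorem H_std_top (hL : StmtLine.{u} N) (hN : (N : Ω) ≠ 0) (m : ℕ) (hm : 0 < m) :
    Nonempty (EtCoh.H (Spec (CommRingCat.of (stdRing Ω m))) (EtCoh.const _ (ZMod N)) (2 * m) ≃+
      ZMod N) := nonempty_HH_top hL hN m hm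

end Groth.Agent.Vancyc.H685.EvenTop
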