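import Groth.Agent.Vancyc.H881.GalEven
import Groth.Agent.Vancyc.H686.EvenVan
import Groth.Agent.Vancyc.H685.EvenTop

/-!
# Galois action and involution on the standard even quadric: the inputs of the assembly of S4003
-/

set_option autoImplicit false
universe u
open CategoryTheory CategoryTheory.Limits AlgebraicGeometry

namespace Groth.Agent.Vancyc.H685.Even4003

open Groth.Agent.Vancyc.H685 Groth.Agent.Vancyc.H685.StdModel Groth.Agent.Vancyc.H881.Bund
  Groth.Agent.Vancyc.H881.GalEven Groth.Agent.Etcore.EtInst Groth.Agent.Vancyc.H686.EvenVan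

theorem isUnit_spec {R : Type u} [CommRing R] {N : ℕ} (hN : IsUnit (N : R)) :
    IsUnit (N : Γ(Spec (CommRingCat.of R), ⊤)) := by
  have h := hN.map (Scheme.ΓSpecIso (CommRingCat.of R)).inv.hom
  rwa [map_natCast] at h

/-- The Galois action on the standard quadric is trivial. -/
theorem hstd {R : Type u} [CommRing R] (hR : EtCoh.IsStrictlyHenselianLocalRing R) (m : ℕ) {N : ℕ}
    (hN : IsUnit (N : R)) {K : Type u} [Field K] [Algebra R K] {Ω : Type u} [Field Ω] [IsSepClosed Ω]
    [Algebra K Ω] [Algebra R Ω] [IsScalarTower R K Ω] (σ : Ω ≃ₐ[K] Ω) (q : ℕ)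
    (z : BH (VanCyc.fib R (stdStr R m) Ω) (ZMod N) q) :
    bh (ZMod N) (VanCyc.galGeom (stdStr R m) σ) q z = z := by
  obtain ⟨i1, i2⟩ := hR
  have i3 : PreservesFiniteLimits (EtCoh.pull (VanCyc.galGeom (stdStr R m) σ)) :=
    Groth.Agent.S0101.result _
  have h1 : VanCyc.galH (stdStr R m) σ (EtCoh.const _ (ZMod N)) q = AddMonoidHom.id _ :=
    galH_std m (isUnit_spec hN) σ (AddCommGrpCat.of (ULift.{u + 1} (ZMod N)))
      (fun x => by
        apply ULift.down_injective
        change N • x.down = 0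
        simp) q
  have h2 := bh_galGeom_eq_smul (M := ZMod N) (q := q) (f := stdStr R m) (σ := σ) i3 1
    (by rw [h1, one_smul]) z
  rw [h2, one_smul]

/-- The involution acts by `-1`. -/
theorem hτ {Ω : Type u} [Field Ω] [IsSepClosed Ω] {N : ℕ} (hN : (N : Ω) ≠ 0) (m : ℕ) (hm : 0 < m)
    (z : BH (Spec (CommRingCat.of (stdRing Ω m))) (ZMod N) (2 * m)) :
    bh (ZMod N) (stdTau Ω m) (2 * m) z = -z := by
  obtain ⟨q, hq⟩ : ∃ q, 2 * m = q + 1 := ⟨2 * m - 1, by omega⟩
  revert z
  rw [hq]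
  exact fun z => EvenHC.HC_τ (MvPolynomial (Fin m) Ω) (fun i : Fin m => MvPolynomial.X i)
    (EvenHC.isUnit_mv Ω m (IsUnit.mk0 _ hN)) q (EvenTop.subsingleton_HH_aff hN m _ (by omega)) z

end Groth.Agent.Vancyc.H685.Even4003

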