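import Groth.Agent.Vancyc.H685.EvenTop
import Groth.Agent.Sga4B.PurityMainB

/-!
# The middle cohomology of the standard even quadric over a separably closed field (unconditional)
-/

set_option autoImplicit false
universe u
open CategoryTheory CategoryTheory.Limits AlgebraicGeometry Opposite

namespace Groth.Agent.Vancyc.H685.EvenTopMain

open Groth.Agent.Vancyc.H685.StdModel

variable {Ω : Type u} [Field Ω] [IsSepClosed Ω] {N : ℕ}

theorem H_std_top (hN : (N : Ω) ≠ 0) (m : ℕ) (hm : 0 < m) :
    Nonempty (EtCoh.H (Spec (CommRingCat.of (stdRing Ω m))) (EtCoh.const _ (ZMod N)) (2 * m) ≃+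
      ZMod N) :=
  EvenTop.H_std_top (Groth.Agent.Sga4B.PurityMainB.stmtLine N) hN m hm

end Groth.Agent.Vancyc.H685.EvenTopMain
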