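import Groth.Agent.Vancyc.H685.StdModel
import Mathlib.Algebra.Category.Ring.Constructions
import Mathlib.RingTheory.TensorProduct.MvPolynomial
import Mathlib.AlgebraicGeometry.Pullbacks

/-!
# Base change of the quadric
-/

set_option autoImplicit false
universe u
open CategoryTheory CategoryTheory.Limits AlgebraicGeometry

namespace Groth.Agent.Vancyc.H685.QuadBC

open Groth.Agent.Vancyc.H685.QuadAlg Groth.Agent.Vancyc.H685.StdModel

section Hom

variable {C : Type u} [CommRing C] {m : ℕ} {α : Fin m → C} {D : Type u} [CommRing D]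

/-- Ring homomorphisms out of `QR C α`. -/
noncomputable def liftHom (f : C →+* D) (β : Fin m → D) (t : D)
    (h : ∑ i, f (α i) * β i = t * (1 - t)) : QR C α →+* D :=
  letI := f.toAlgebra
  (lift (C := C) β t h : QR C α →ₐ[C] D).toRingHom

theorem liftHom_y (f : C →+* D) (β : Fin m → D) (t : D)
    (h : ∑ i, f (α i) * β i = t * (1 - t)) (i : Fin m) : liftHom f β t h (y C α i) = β i := by
  let _ := f.toAlgebra
  exact lift_y (C := C) β t h i

theorem liftHom_s (f : C →+* D) (β : Fin m → D) (t : D)
    (h : ∑ i, f (α i) * β i = t * (1 - t)) : liftHom f β t h (s C α) = t := by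
  let _ := f.toAlgebra
  exact lift_s (C := C) β t h

theorem liftHom_algebraMap (f : C →+* D) (β : Fin m → D) (t : D)
    (h : ∑ i, f (α i) * β i = t * (1 - t)) (c : C) :
    liftHom f β t h (algebraMap C (QR C α) c) = f c := by
  let _ := f.toAlgebra
  exact AlgHom.commutes (lift (C := C) β t h : QR C α →ₐ[C] D) c

theorem ringHom_ext {f g : QR C α →+* D}
    (h0 : ∀ c, f (algebraMap C (QR C α) c) = g (algebraMap C (QR C α) c))
    (h1 : ∀ i, f (y C α i) = g (y C α i)) (h2 : f (s C α) = g (s C α)) : f = g := by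
  let _ := (f.comp (algebraMap C (QR C α))).toAlgebra
  let f' : QR C α →ₐ[C] D := { f with commutes' := fun c => rfl }
  let g' : QR C α →ₐ[C] D := { g with commutes' := fun c => (h0 c).symm }
  have h : f' = g' := hom_ext h1 h2
  exact RingHom.ext fun x => AlgHom.congr_fun h x

end Hom

section BC

variable {C C' : Type u} [CommRing C] [CommRing C'] (ψ : C →+* C') {m : ℕ} (α : Fin m → C)
  (α' : Fin m → C') (hα : ∀ i, ψ (α i) = α' i)

/-- The base change map. -/
noncomputable def bcMap : QR C α →+* QR C' α' :=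
  liftHom ((algebraMap C' (QR C' α')).comp ψ) (y C' α') (s C' α') (by
    simp only [RingHom.comp_apply, hα]
    exact relation C' α')

theorem bcMap_y (i : Fin m) : bcMap ψ α α' hα (y C α i) = y C' α' i := liftHom_y _ _ _ _ _

theorem bcMap_s : bcMap ψ α α' hα (s C α) = s C' α' := liftHom_s _ _ _ _

theorem bcMap_algebraMap (c : C) :
    bcMap ψ α α' hα (algebraMap C (QR C α) c) = algebraMap C' (QR C' α') (ψ c) :=
  liftHom_algebraMap _ _ _ _ _

/-- Compatibility with the involutions. -/
theorem bcMap_tau : (bcMap ψ α α' hα).comp (tau C α : QR C α →+* QR C α) =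
    (tau C' α' : QR C' α' →+* QR C' α').comp (bcMap ψ α α' hα) := by
  apply ringHom_ext
  · intro c
    change bcMap ψ α α' hα (tau C α (algebraMap C _ c)) = tau C' α' (bcMap ψ α α' hα (algebraMap C _ c))
    rw [AlgHom.commutes, bcMap_algebraMap, AlgHom.commutes]
  · intro i
    change bcMap ψ α α' hα (tau C α (y C α i)) = tau C' α' (bcMap ψ α α' hα (y C α i))
    rw [tau_y, bcMap_y, tau_y]
  · change bcMap ψ α α' hα (tau C α (s C α)) = tau C' α' (bcMap ψ α α' hα (s C α))
    rw [tau_s, map_sub, map_one, bcMap_s, tau_s]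

/-- `QR C' α' = C' ⊗_C QR C α` -/
theorem isPushout_QR : IsPushout (CommRingCat.ofHom ψ) (CommRingCat.ofHom (algebraMap C (QR C α)))
    (CommRingCat.ofHom (algebraMap C' (QR C' α'))) (CommRingCat.ofHom (bcMap ψ α α' hα)) := by
  have w : CommRingCat.ofHom ψ ≫ CommRingCat.ofHom (algebraMap C' (QR C' α')) =
      CommRingCat.ofHom (algebraMap C (QR C α)) ≫ CommRingCat.ofHom (bcMap ψ α α' hα) := by
    ext c
    exact (bcMap_algebraMap ψ α α' hα c).symm
  have hrel : ∀ t : PushoutCocone (CommRingCat.ofHom ψ) (CommRingCat.ofHom (algebraMap C (QR C α))),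
      ∑ i, t.inl.hom (α' i) * t.inr.hom (y C α i) = t.inr.hom (s C α) * (1 - t.inr.hom (s C α)) := by
    intro t
    have h1 := congrArg t.inr.hom (relation C α)
    rw [map_sum, map_mul, map_sub, map_one] at h1
    rw [← h1]
    refine Finset.sum_congr rfl fun i _ => ?_
    rw [map_mul, ← hα]
    congr 1
    exact congrArg (fun k => k.hom (α i)) t.condition
  refine ⟨⟨w⟩, ⟨PushoutCocone.IsColimit.mk w (fun t => CommRingCat.ofHom
    (liftHom t.inl.hom (fun i => t.inr.hom (y C α i)) (t.inr.hom (s C α)) (hrel t))) ?_ ?_ ?_⟩⟩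
  · intro t
    ext c
    exact liftHom_algebraMap (α := α') _ _ _ (hrel t) _
  · intro t
    apply CommRingCat.hom_ext
    apply ringHom_ext
    · intro c
      change liftHom (α := α') _ _ _ (hrel t) (bcMap ψ α α' hα (algebraMap C (QR C α) c)) = _
      rw [bcMap_algebraMap, liftHom_algebraMap]
      exact congrArg (fun k => k.hom c) t.condition
    · intro i
      change liftHom (α := α') _ _ _ (hrel t) (bcMap ψ α α' hα (y C α i)) = _
      rw [bcMap_y, liftHom_y]
    · change liftHom (α := α') _ _ _ (hrel t) (bcMap ψ α α' hα (s C α)) = _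
      rw [bcMap_s, liftHom_s]
  · intro t f h1 h2
    apply CommRingCat.hom_ext
    apply ringHom_ext
    · intro c
      rw [CommRingCat.hom_ofHom, liftHom_algebraMap]
      exact congrArg (fun k => k.hom c) h1
    · intro i
      rw [CommRingCat.hom_ofHom, liftHom_y]
      have := congrArg (fun k => k.hom (y C α i)) h2
      change f.hom (bcMap ψ α α' hα (y C α i)) = _ at this
      rwa [bcMap_y] at this
    · rw [CommRingCat.hom_ofHom, liftHom_s]
      have := congrArg (fun k => k.hom (s C α)) h2
      change f.hom (bcMap ψ α α' hα (s C α)) = _ at this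
      rwa [bcMap_s] at this

end BC

section Std

attribute [local instance] MvPolynomial.algebraMvPolynomial

variable (R Ω : Type u) [CommRing R] [CommRing Ω] [Algebra R Ω] (m : ℕ)

/-- `stdRing R m ⟶ stdRing Ω m` -/
noncomputable def stdMap : stdRing R m →+* stdRing Ω m :=
  bcMap (MvPolynomial.map (algebraMap R Ω)) (fun i : Fin m => MvPolynomial.X i)
    (fun i : Fin m => MvPolynomial.X i) (fun i => MvPolynomial.map_X _ i)

theorem isPushout_std : IsPushout (CommRingCat.ofHom (algebraMap R Ω))
    (CommRingCat.ofHom (algebraMap R (stdRing R m)))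
    (CommRingCat.ofHom (algebraMap Ω (stdRing Ω m))) (CommRingCat.ofHom (stdMap R Ω m)) := by
  have h1 : IsPushout (CommRingCat.ofHom (algebraMap R Ω))
      (CommRingCat.ofHom (algebraMap R (MvPolynomial (Fin m) R)))
      (CommRingCat.ofHom (algebraMap Ω (MvPolynomial (Fin m) Ω)))
      (CommRingCat.ofHom (MvPolynomial.map (algebraMap R Ω))) :=
    CommRingCat.isPushout_of_isPushout R Ω (MvPolynomial (Fin m) R) (MvPolynomial (Fin m) Ω)
  have h2 := isPushout_QR (MvPolynomial.map (σ := Fin m) (algebraMap R Ω))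
    (fun i : Fin m => MvPolynomial.X i) (fun i : Fin m => MvPolynomial.X i)
    (fun i => MvPolynomial.map_X _ i)
  have h3 := h1.flip.paste_horiz h2.flip
  exact h3.flip

/-- The base change square of the standard quadric. -/
theorem isPullback_std : IsPullback (Spec.map (CommRingCat.ofHom (stdMap R Ω m)))
    (stdStr Ω m) (stdStr R m) (VanCyc.toS R Ω) :=
  (isPullback_SpecMap_of_isPushout _ _ _ _ (isPushout_std R Ω m)).flip

theorem stdMap_tau : stdTau Ω m ≫ Spec.map (CommRingCat.ofHom (stdMap R Ω m)) =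
    Spec.map (CommRingCat.ofHom (stdMap R Ω m)) ≫ stdTau R m := by
  rw [← Spec.map_comp, ← Spec.map_comp, ← CommRingCat.ofHom_comp, ← CommRingCat.ofHom_comp]
  congr 2
  exact (bcMap_tau (MvPolynomial.map (algebraMap R Ω)) (fun i : Fin m => MvPolynomial.X i)
    (fun i : Fin m => MvPolynomial.X i) (fun i => MvPolynomial.map_X _ i)).symm

/-- The comparison isomorphism `fib ≅ Spec (stdRing Ω m)`. -/
noncomputable def fibIso : Spec (CommRingCat.of (stdRing Ω m)) ≅ VanCyc.fib R (stdStr R m) Ω :=
  (isPullback_std R Ω m).isoPullback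

theorem fibIso_hom_fst : (fibIso R Ω m).hom ≫ VanCyc.jA R (stdStr R m) Ω =
    Spec.map (CommRingCat.ofHom (stdMap R Ω m)) := (isPullback_std R Ω m).isoPullback_hom_fst

theorem fibIso_hom_snd : (fibIso R Ω m).hom ≫ pullback.snd _ _ = stdStr Ω m :=
  (isPullback_std R Ω m).isoPullback_hom_snd

theorem fibIso_tau : stdTau Ω m ≫ (fibIso R Ω m).hom = (fibIso R Ω m).hom ≫ fibTau R m Ω := by
  apply pullback.hom_ext
  · have h1 := fibIso_hom_fst R Ω m
    have h2 := fibTau_fst R m Ω
    rw [Category.assoc, Category.assoc, h1, h2, ← Category.assoc, h1, stdMap_tau]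
  · have h1 := fibIso_hom_snd R Ω m
    have h2 := fibTau_snd R m Ω
    rw [Category.assoc, Category.assoc, h1, h2, h1, stdTau_stdStr]

end Std

end Groth.Agent.Vancyc.H685.QuadBC
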