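import Groth.Agent.Vancyc.H685.QuadTop
import Groth.Agent.Vancyc.H685.QuadBC
import Groth.Agent.Lefpen.H370.CohCmp
import Groth.Agent.Etrest.ConstBasic

/-!
# The involution and the middle cohomology of the standard even quadric, constant coefficients

For a commutative ring `C` and `Y = Spec C[y, s]/(∑ α_i y_i - s (1 - s))`, `τ : s ↦ 1 - s`:
* `HC_τ`: `τ` acts by `-1` on `H^{q+1}(Y, Z/N)` if `H^{q+1}(Spec C, Z/N) = 0`;
* `nonempty_HC`: `H^q(T₀, Z/N) ≃ H^{q+1}(Y, Z/N)` if `H^q(Spec C, Z/N) = H^{q+1}(Spec C, Z/N) = 0`;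
* `HC_fibTau`, `nonempty_fib`: the same for the fibre `VanCyc.fib R (stdStr R m) Ω`.
-/

set_option autoImplicit false
universe u
open CategoryTheory CategoryTheory.Limits AlgebraicGeometry Opposite CategoryTheory.Abelian

namespace Groth.Agent.Vancyc.H685.EvenHC

open Groth.Agent.Etcore.PullCoh
open scoped Groth.Agent.Etcore.EtInst
open Groth.Agent.Etcore.EtInst Groth.Agent.Etcore.HpullCalc Groth.Agent.Etcore.HC
open Groth.Agent.Vancyc.H685 Groth.Agent.Lefpen.H370.CohCmp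
open Groth.Agent.Vancyc.H685.StdModel

section General

variable {Y T : Scheme.{u}} (p : Y ⟶ T) (M : Type) [AddCommGroup M]

/-- A scalar action in relative form gives one in absolute form. -/
theorem HC_eq_neg (τ : Y ⟶ Y) (hτ : τ ≫ p = p) (q : ℕ)
    (h : ∀ y : HH Y ((EtCoh.pull p).obj (EtCoh.const T M)) q,
      hpVia τ p p hτ (EtCoh.const T M) q y = -y)
    (y : HH Y (EtCoh.const Y M) q) : HC M τ q y = -y := by
  obtain ⟨z, rfl⟩ := (cst p M q).surjective y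
  rw [← cst_hpVia τ p p hτ M q z, h, map_neg]

theorem HC_eq_self (τ : Y ⟶ Y) (hτ : τ ≫ p = p) (q : ℕ)
    (h : ∀ y : HH Y ((EtCoh.pull p).obj (EtCoh.const T M)) q,
      hpVia τ p p hτ (EtCoh.const T M) q y = y)
    (y : HH Y (EtCoh.const Y M) q) : HC M τ q y = y := by
  obtain ⟨z, rfl⟩ := (cst p M q).surjective y
  rw [← cst_hpVia τ p p hτ M q z, h]

/-- Conversely. -/
theorem hpVia_of_HC (τ : Y ⟶ Y) (hτ : τ ≫ p = p) (q : ℕ) (ε : ℤ)
    (h : ∀ y : HH Y (EtCoh.const Y M) q, HC M τ q y = ε • y)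
    (y : HH Y ((EtCoh.pull p).obj (EtCoh.const T M)) q) :
    hpVia τ p p hτ (EtCoh.const T M) q y = ε • y := by
  apply (cst p M q).injective
  rw [cst_hpVia τ p p hτ M q y, h, map_zsmul]

/-- Transport along an isomorphism. -/
theorem HC_conj {X : Scheme.{u}} (Θ : X ≅ Y) (g : X ⟶ X) (g' : Y ⟶ Y) (w : g ≫ Θ.hom = Θ.hom ≫ g')
    (q : ℕ) (ε : ℤ) (h : ∀ y : HH Y (EtCoh.const Y M) q, HC M g' q y = ε • y)
    (x : HH X (EtCoh.const X M) q) : HC M g q x = ε • x := by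
  obtain ⟨y, rfl⟩ := (bijective_HC Θ M q).2 x
  rw [← HC_comp, w, HC_comp, h, map_zsmul]

end General

section Quad

variable (C : Type u) [CommRing C] {m : ℕ} (α : Fin m → C) {N : ℕ} (hN : IsUnit (N : C))

theorem killed (X : Scheme.{u}) (N : ℕ) : EtCoh.KilledBy N (EtCoh.const X (ZMod N)) :=
  Groth.Agent.Etrest.ConstBasic.killedBy_const X (ZMod N) N (fun m => by simp)

include hN in
theorem HC_τ (q : ℕ) (h0 : Subsingleton (HH (QuadGeom.T C) (EtCoh.const _ (ZMod N)) (q + 1)))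
    (y : HH (QuadGeom.Y C α) (EtCoh.const _ (ZMod N)) (q + 1)) :
    HC (ZMod N) (QuadGeom.τ C α) (q + 1) y = -y :=
  HC_eq_neg (QuadGeom.p C α) (ZMod N) (QuadGeom.τ C α) (QuadGeom.τ_p C α) (q + 1)
    (QuadTop.hpVia_τ C α hN _ (killed _ N) q h0) y

include hN in
theorem nonempty_HC (q : ℕ) (h0 : Subsingleton (HH (QuadGeom.T C) (EtCoh.const _ (ZMod N)) q))
    (h1 : Subsingleton (HH (QuadGeom.T C) (EtCoh.const _ (ZMod N)) (q + 1))) :
    Nonempty (HH (QuadGeom.T₀ C α) (EtCoh.const _ (ZMod N)) q ≃+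
      HH (QuadGeom.Y C α) (EtCoh.const _ (ZMod N)) (q + 1)) := by
  obtain ⟨e⟩ := QuadTop.nonempty_equiv C α hN (EtCoh.const _ (ZMod N)) (killed _ N) q h0 h1
  exact ⟨((cst (QuadGeom.T₀ C α).ι (ZMod N) q).symm.trans e).trans
    (cst (QuadGeom.p C α) (ZMod N) (q + 1))⟩

end Quad

section Fib

variable (R : Type u) [CommRing R] (Ω : Type u) [CommRing Ω] [Algebra R Ω] (m : ℕ) {N : ℕ}
  (hN : IsUnit (N : Ω))

include hN in
theorem isUnit_mv : IsUnit (N : MvPolynomial (Fin m) Ω) := by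
  have h := hN.map (algebraMap Ω (MvPolynomial (Fin m) Ω))
  rwa [map_natCast] at h

include hN in
/-- The involution of the geometric fibre acts by `-1`. -/
theorem HC_fibTau (q : ℕ)
    (h0 : Subsingleton (HH (Spec (CommRingCat.of (MvPolynomial (Fin m) Ω)))
      (EtCoh.const _ (ZMod N)) (q + 1)))
    (y : HH (VanCyc.fib R (stdStr R m) Ω) (EtCoh.const _ (ZMod N)) (q + 1)) :
    HC (ZMod N) (fibTau R m Ω) (q + 1) y = (-1 : ℤ) • y := by
  have h1 : fibTau R m Ω ≫ (QuadBC.fibIso R Ω m).symm.hom =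
      (QuadBC.fibIso R Ω m).symm.hom ≫ stdTau Ω m := by
    rw [Iso.symm_hom, Iso.comp_inv_eq, Category.assoc, QuadBC.fibIso_tau, Iso.inv_hom_id_assoc]
  refine HC_conj (ZMod N) (QuadBC.fibIso R Ω m).symm (fibTau R m Ω) (stdTau Ω m) h1 (q + 1) (-1) ?_ y
  intro z
  rw [neg_one_zsmul]
  exact HC_τ (MvPolynomial (Fin m) Ω) (fun i : Fin m => MvPolynomial.X i) (isUnit_mv Ω m hN) q h0 z

include hN in
/-- The cohomology of the geometric fibre. -/
theorem nonempty_fib (q : ℕ)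
    (h0 : Subsingleton (HH (Spec (CommRingCat.of (MvPolynomial (Fin m) Ω)))
      (EtCoh.const _ (ZMod N)) q))
    (h1 : Subsingleton (HH (Spec (CommRingCat.of (MvPolynomial (Fin m) Ω)))
      (EtCoh.const _ (ZMod N)) (q + 1))) :
    Nonempty (HH (QuadGeom.T₀ (MvPolynomial (Fin m) Ω) (fun i : Fin m => MvPolynomial.X i))
        (EtCoh.const _ (ZMod N)) q ≃+
      HH (VanCyc.fib R (stdStr R m) Ω) (EtCoh.const _ (ZMod N)) (q + 1)) := by
  obtain ⟨e⟩ := nonempty_HC (MvPolynomial (Fin m) Ω) (fun i : Fin m => MvPolynomial.X i)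
    (isUnit_mv Ω m hN) q h0 h1
  exact ⟨e.trans (AddEquiv.ofBijective _
    (bijective_HC (QuadBC.fibIso R Ω m).symm (ZMod N) (q + 1)))⟩

end Fib

end Groth.Agent.Vancyc.H685.EvenHC
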