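import Groth.Agent.Etcore.MVbc
import Groth.Agent.Etcore.HpVia
import Groth.Agent.Sga4B.HVia
import Groth.Agent.Sga4B.AcycMor

/-!
# Acyclicity of an open subscheme by comparison with an acyclic scheme

`φ : E ⟶ Y`, `p : Y ⟶ T`, `D ⊆ Y` and `T₀ ⊆ T` open.  If `φ` is an isomorphism over `D`, `φ ≫ p` is
acyclic, and `p` and `φ ≫ p` are acyclic over `T₀`, then `U₀ = D ∪ p⁻¹ T₀` has the cohomology of `T`.
-/

set_option autoImplicit false
set_option backward.isDefEq.respectTransparency false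
set_option backward.isDefEq.respectTransparency.types false
open CategoryTheory CategoryTheory.Limits AlgebraicGeometry Opposite CategoryTheory.Abelian
universe u

namespace Groth.Agent.Vancyc.H685.AcycOpen

open Groth.Agent.Etcore.PullCoh
open scoped Groth.Agent.Etcore.EtInst
open Groth.Agent.Etcore.EtInst Groth.Agent.Etcore.HpullCalc Groth.Agent.Etcore
open Groth.Agent.Sga4B Groth.Agent.Sga4B.AcycMor Groth.Agent.EtpbcB.NKillEt

variable {X X' Y E T : Scheme.{u}}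

theorem Acyc.hp_bijective {n : ℕ} {f : X ⟶ Y} (hf : Acyc n f)
    [PreservesFiniteLimits (EtCoh.pull f)] (F : EtCoh.Ab Y)
    (hF : EtCoh.KilledBy n F) (q : ℕ) : Function.Bijective (hp f F q) :=
  hf.Hpull_bijective F hF q

/-- Two out of three: `f ≫ g` and `g`. -/
theorem bijective_of_comp_right (f : X ⟶ Y) (g : Y ⟶ T) (h : X ⟶ T) (w : f ≫ g = h)
    [PreservesFiniteLimits (EtCoh.pull f)]
    [PreservesFiniteLimits (EtCoh.pull g)] [PreservesFiniteLimits (EtCoh.pull h)]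
    (G : EtCoh.Ab T) (n : ℕ) (hg : Function.Bijective (hp g G n)) (hh : Function.Bijective (hp h G n)) :
    Function.Bijective (hp f ((EtCoh.pull g).obj G) n) := by
  subst w
  exact (bijective_hp_comp f g G n hg).1 hh

/-- Two out of three: `f ≫ g` and `f`. -/
theorem bijective_of_comp_left (f : X ⟶ Y) (g : Y ⟶ T) (h : X ⟶ T) (w : f ≫ g = h)
    [PreservesFiniteLimits (EtCoh.pull f)]
    [PreservesFiniteLimits (EtCoh.pull g)] [PreservesFiniteLimits (EtCoh.pull h)]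
    (G : EtCoh.Ab T) (n : ℕ) (hf : Function.Bijective (hp f ((EtCoh.pull g).obj G) n))
    (hh : Function.Bijective (hp h G n)) :
    Function.Bijective (hp g G n) := by
  have h1 : ⇑(hp h G n) = ⇑(hpVia f g h w G n) ∘ ⇑(hp g G n) :=
    funext fun x => (hpVia_hp f g h w G n x).symm
  have h2 := (bijective_hpVia_iff f g h w G n).2 hf
  rw [h1] at hh
  exact (Function.Bijective.of_comp_iff' h2 _).1 hh

/-- Two out of three: `f` and `g`. -/
theorem bijective_comp (f : X ⟶ Y) (g : Y ⟶ T) (h : X ⟶ T) (w : f ≫ g = h)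
    [PreservesFiniteLimits (EtCoh.pull f)]
    [PreservesFiniteLimits (EtCoh.pull g)] [PreservesFiniteLimits (EtCoh.pull h)]
    (G : EtCoh.Ab T) (n : ℕ) (hf : Function.Bijective (hp f ((EtCoh.pull g).obj G) n))
    (hg : Function.Bijective (hp g G n)) :
    Function.Bijective (hp h G n) := by
  subst w
  exact (bijective_hp_comp f g G n hg).2 hf

/-- Transport of bijectivity along `f = e ≫ h`-type isomorphisms of coefficients. -/
theorem bijective_hp_transport (f : X ⟶ Y) (g : Y ⟶ T) (g' : Y ⟶ X') (g'' : X' ⟶ T) (w : g' ≫ g'' = g)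
    [PreservesFiniteLimits (EtCoh.pull f)] (G : EtCoh.Ab T) (n : ℕ)
    (h : Function.Bijective (hp f ((EtCoh.pull g).obj G) n)) :
    Function.Bijective (hp f ((EtCoh.pull g').obj ((EtCoh.pull g'').obj G)) n) :=
  bijective_hp_of_iso f ((theta g' g'' g w).app G).symm h

theorem bijective_hp_transport' (f : X ⟶ Y) (g : Y ⟶ T) (g' : Y ⟶ X') (g'' : X' ⟶ T) (w : g' ≫ g'' = g)
    [PreservesFiniteLimits (EtCoh.pull f)] (G : EtCoh.Ab T) (n : ℕ)
    (h : Function.Bijective (hp f ((EtCoh.pull g').obj ((EtCoh.pull g'').obj G)) n)) :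
    Function.Bijective (hp f ((EtCoh.pull g).obj G) n) :=
  bijective_hp_of_iso f ((theta g' g'' g w).app G) h

/-- Restricting a morphism over a smaller open subscheme preserves isomorphisms. -/
theorem isIso_morphismRestrict_of_le (f : X ⟶ Y) {U V : Y.Opens} (h : V ≤ U) [IsIso (f ∣_ U)] :
    IsIso (f ∣_ V) := by
  have h1 : IsPullback (f ∣_ V) (X.homOfLE (f.preimage_mono h)) (Y.homOfLE h) (f ∣_ U) := by
    refine IsPullback.of_bot ?_ (morphismRestrict_homOfLE f V U h) (isPullback_morphismRestrict f U)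
    have h2 := isPullback_morphismRestrict f V
    rwa [← X.homOfLE_ι (f.preimage_mono h), ← Y.homOfLE_ι h] at h2
  exact h1.isIso_fst_of_isIso

/-- Cohomology of a scheme lying over an open subscheme `T₀` of `T`, with both projections acyclic. -/
theorem bijective_hp_over {n : ℕ} (r : X ⟶ Y) (q : Y ⟶ T) (rq : X ⟶ T) (w : r ≫ q = rq)
    (hq : Acyc n q) (hrq : Acyc n rq)
    (K : EtCoh.Ab T) (hK : EtCoh.KilledBy n K) (i : ℕ) :
    haveI := Groth.Agent.S0101.result r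
    Function.Bijective (hp r ((EtCoh.pull q).obj K) i) := by
  have i1 := Groth.Agent.S0101.result r
  have i2 := Groth.Agent.S0101.result q
  have i3 := Groth.Agent.S0101.result rq
  exact bijective_of_comp_right r q rq w K i (Acyc.hp_bijective hq K hK i)
    (Acyc.hp_bijective hrq K hK i)

section Main

variable {n : ℕ} (φ : E ⟶ Y) (p : Y ⟶ T) (D : Y.Opens) (T₀ : T.Opens)
  (hD : IsIso (φ ∣_ D)) (hE : Acyc n (φ ≫ p)) (hE₀ : Acyc n ((φ ≫ p) ∣_ T₀)) (hY₀ : Acyc n (p ∣_ T₀))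
  (hφ : ∀ e, φ e ∈ D ⊔ p ⁻¹ᵁ T₀)

include hD hE hE₀ hY₀ hφ in
/-- The cohomology of `U₀ = D ∪ p⁻¹ T₀` is the cohomology of `T`. -/
theorem bijective_hp_U₀ (G : EtCoh.Ab T) (hG : EtCoh.KilledBy n G) (i : ℕ) :
    haveI := Groth.Agent.S0101.result ((D ⊔ p ⁻¹ᵁ T₀ : Y.Opens).ι ≫ p)
    Function.Bijective (hp ((D ⊔ p ⁻¹ᵁ T₀ : Y.Opens).ι ≫ p) G i) := by
  have inst : ∀ {A B : Scheme.{u}} (f : A ⟶ B), PreservesFiniteLimits (EtCoh.pull f) :=
    fun f => Groth.Agent.S0101.result f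
  set V : Y.Opens := p ⁻¹ᵁ T₀ with hV
  set U₀ : Y.Opens := D ⊔ V with hU₀
  let g : E ⟶ U₀ := IsOpenImmersion.lift U₀.ι φ (by
    rintro _ ⟨e, rfl⟩
    rw [Scheme.Opens.range_ι]
    exact hφ e)
  have hg : g ≫ U₀.ι = φ := IsOpenImmersion.lift_fac _ _ _
  have hgx : ∀ e, (g e).1 = φ e := by
    intro e
    have := congrArg (fun (k : E ⟶ Y) => k e) hg
    exact this
  let j : (D : Scheme.{u}) ⟶ U₀ := Y.homOfLE le_sup_left
  let k : (V : Scheme.{u}) ⟶ U₀ := Y.homOfLE le_sup_right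
  let w : ((D ⊓ V : Y.Opens) : Scheme.{u}) ⟶ U₀ := Y.homOfLE (inf_le_left.trans le_sup_left)
  have hrange : ∀ (W : Y.Opens) (h : W ≤ U₀), Set.range (Y.homOfLE h) = {x | x.1 ∈ W} := by
    intro W h
    ext x
    constructor
    · rintro ⟨y, rfl⟩
      have : (Y.homOfLE h y).1 = y.1 := by
        have := congrArg (fun (k : (W : Scheme.{u}) ⟶ Y) => k y) (Y.homOfLE_ι h)
        exact this
      change (Y.homOfLE h y).1 ∈ W
      rw [this]
      exact y.2
    · intro hx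
      refine ⟨⟨x.1, hx⟩, ?_⟩
      apply Subtype.ext
      have := congrArg (fun (k : (W : Scheme.{u}) ⟶ Y) => k ⟨x.1, hx⟩) (Y.homOfLE_ι h)
      exact this
  have hpre : ∀ (W : Y.Opens) (h : W ≤ U₀),
      Set.range (φ ⁻¹ᵁ W).ι = g ⁻¹' Set.range (Y.homOfLE h) := by
    intro W h
    rw [hrange, Scheme.Opens.range_ι]
    ext e
    change φ e ∈ W ↔ (g e).1 ∈ W
    rw [hgx]
  have hsq : ∀ (W : Y.Opens) (h : W ≤ U₀), φ ∣_ W ≫ Y.homOfLE h = (φ ⁻¹ᵁ W).ι ≫ g := by
    intro W h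
    rw [← cancel_mono U₀.ι, Category.assoc, Y.homOfLE_ι, Category.assoc, hg, morphismRestrict_ι]
  have hjk : Set.range w = Set.range j ∩ Set.range k := by
    rw [hrange, hrange, hrange]
    rfl
  have hcov : Set.range j ∪ Set.range k = Set.univ := by
    rw [hrange, hrange]
    ext x
    simp only [Set.mem_union, Set.mem_setOf_eq, Set.mem_univ, iff_true]
    exact x.2
  -- over `D`
  have h1 : ∀ i, Function.Bijective (hp (φ ∣_ D) ((EtCoh.pull j).obj ((EtCoh.pull (U₀.ι ≫ p)).obj G)) i) :=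
    fun i => HpVia.hp_bijective_of_isIso (φ ∣_ D) _ i
  have hDV : IsIso (φ ∣_ (D ⊓ V)) := isIso_morphismRestrict_of_le φ inf_le_left
  have h2 : ∀ i, Function.Bijective (hp (φ ∣_ (D ⊓ V))
      ((EtCoh.pull w).obj ((EtCoh.pull (U₀.ι ≫ p)).obj G)) i) :=
    fun i => HpVia.hp_bijective_of_isIso (φ ∣_ (D ⊓ V)) _ i
  -- over `T₀`
  have h3 : ∀ i, Function.Bijective (hp (φ ∣_ V)
      ((EtCoh.pull k).obj ((EtCoh.pull (U₀.ι ≫ p)).obj G)) i) := by
    intro i
    have e1 := bijective_hp_over (φ ∣_ V) (p ∣_ T₀) ((φ ≫ p) ∣_ T₀) (morphismRestrict_comp φ p T₀).symm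
      hY₀ hE₀ ((EtCoh.pull T₀.ι).obj G) (killedBy_pull T₀.ι hG) i
    have e2 := bijective_hp_transport' (φ ∣_ V) (V.ι ≫ p) (p ∣_ T₀) T₀.ι (morphismRestrict_ι p T₀) G i e1
    exact bijective_hp_transport (φ ∣_ V) (V.ι ≫ p) k (U₀.ι ≫ p)
      (by rw [← Category.assoc, Y.homOfLE_ι]) G i e2
  have h4 := MVbc.bijective_hp g j (φ ⁻¹ᵁ D).ι k (φ ⁻¹ᵁ V).ι w (φ ⁻¹ᵁ (D ⊓ V)).ι
    (hpre D le_sup_left) (hpre V le_sup_right) (hpre (D ⊓ V) (inf_le_left.trans le_sup_left)) hjk hcov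
    (φ ∣_ D) (hsq D le_sup_left) (φ ∣_ V) (hsq V le_sup_right) (φ ∣_ (D ⊓ V))
    (hsq (D ⊓ V) (inf_le_left.trans le_sup_left))
    ((EtCoh.pull (U₀.ι ≫ p)).obj G) h1 h3 h2 i
  exact bijective_of_comp_left g (U₀.ι ≫ p) (φ ≫ p) (by rw [← Category.assoc, hg]) G i h4
    (Acyc.hp_bijective hE G hG i)

end Main

end Groth.Agent.Vancyc.H685.AcycOpen
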