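import Groth.Agent.Vancyc.H685.QuadAlg
import Groth.Agent.Vancyc.H685.AcycOpen

/-!
# Geometry of the family of quadrics `∑ α_i y_i = s (1 - s)` over `T = Spec C`

* `Y`, `p : Y ⟶ T`, `E = 𝔸^m_T ⟶ T`, `φ : E ⟶ Y`, `τ : Y ⟶ Y`;
* `T₀ = ⋃ D(α_i)`, `D = D(s)`, `D' = D(1 - s)`;
* `φ` is an isomorphism over `D`, `φ(E) ⊆ D ∪ p⁻¹ T₀`, `τ⁻¹ D = D'`, `D ∪ D' = Y`, `D ∩ D' ⊆ p⁻¹ T₀`.
-/

set_option autoImplicit false
universe u
open CategoryTheory CategoryTheory.Limits AlgebraicGeometry Opposite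

namespace Groth.Agent.Vancyc.H685.QuadGeom

open Groth.Agent.Vancyc.H685 Groth.Agent.Vancyc.H685.QuadAlg

variable (C : Type u) [CommRing C] {m : ℕ} (α : Fin m → C)

/-- the base -/
noncomputable abbrev T : Scheme.{u} := Spec (CommRingCat.of C)

/-- the quadric -/
noncomputable abbrev Y : Scheme.{u} := Spec (CommRingCat.of (QR C α))

/-- affine space -/
noncomputable abbrev E (m : ℕ) : Scheme.{u} := Spec (CommRingCat.of (MvPolynomial (Fin m) C))

/-- the projection of the quadric -/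
noncomputable abbrev p : Y C α ⟶ T C := Spec.map (CommRingCat.ofHom (algebraMap C (QR C α)))

/-- the projection of affine space -/
noncomputable abbrev e (m : ℕ) : E C m ⟶ T C :=
  Spec.map (CommRingCat.ofHom (algebraMap C (MvPolynomial (Fin m) C)))

/-- the chart -/
noncomputable abbrev φ : E C m ⟶ Y C α :=
  Spec.map (CommRingCat.ofHom (phi C α : QR C α →+* MvPolynomial (Fin m) C))

/-- the involution -/
noncomputable abbrev τ : Y C α ⟶ Y C α :=
  Spec.map (CommRingCat.ofHom (tau C α : QR C α →+* QR C α))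

theorem φ_p : φ C α ≫ p C α = e C m := by
  rw [← Spec.map_comp, ← CommRingCat.ofHom_comp]
  congr 2
  exact AlgHom.comp_algebraMap (phi C α)

theorem τ_p : τ C α ≫ p C α = p C α := by
  rw [← Spec.map_comp, ← CommRingCat.ofHom_comp]
  congr 2
  exact AlgHom.comp_algebraMap (tau C α)

theorem τ_τ : τ C α ≫ τ C α = 𝟙 _ := by
  rw [← Spec.map_comp, ← CommRingCat.ofHom_comp]
  have h : (tau C α : QR C α →+* QR C α).comp (tau C α : QR C α →+* QR C α) = RingHom.id _ := by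
    rw [← AlgHom.comp_toRingHom, tau_tau]
    rfl
  rw [h]
  exact Spec.map_id _

/-- `D(α_i)` -/
noncomputable def DT (i : Fin m) : (T C).Opens := PrimeSpectrum.basicOpen (α i)

/-- `⋃ D(α_i)` -/
noncomputable def T₀ : (T C).Opens := ⨆ i, DT C α i

/-- `D(s)` -/
noncomputable def D : (Y C α).Opens := PrimeSpectrum.basicOpen (s C α)

/-- `D(1 - s)` -/
noncomputable def D' : (Y C α).Opens := PrimeSpectrum.basicOpen (1 - s C α)

theorem mem_T₀ (x : T C) : x ∈ T₀ C α ↔ ∃ i, α i ∉ x.asIdeal := by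
  rw [T₀, TopologicalSpace.Opens.mem_iSup]
  rfl

theorem mem_D (x : Y C α) : x ∈ D C α ↔ s C α ∉ x.asIdeal := Iff.rfl

theorem mem_D' (x : Y C α) : x ∈ D' C α ↔ 1 - s C α ∉ x.asIdeal := Iff.rfl

theorem mem_V (x : Y C α) : x ∈ p C α ⁻¹ᵁ T₀ C α ↔ ∃ i, algebraMap C (QR C α) (α i) ∉ x.asIdeal := by
  change p C α x ∈ T₀ C α ↔ _
  rw [mem_T₀]
  rfl

theorem mem_V_E (x : E C m) : φ C α x ∈ p C α ⁻¹ᵁ T₀ C α ↔
    ∃ i, algebraMap C (MvPolynomial (Fin m) C) (α i) ∉ x.asIdeal := by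
  rw [mem_V]
  refine exists_congr fun i => not_congr ?_
  change phi C α (algebraMap C (QR C α) (α i)) ∈ x.asIdeal ↔ _
  rw [AlgHom.commutes]

theorem φ_mem (x : E C m) : φ C α x ∈ D C α ⊔ p C α ⁻¹ᵁ T₀ C α := by
  rw [TopologicalSpace.Opens.mem_sup]
  by_contra h
  rw [not_or, mem_V_E, mem_D, not_not, not_exists] at h
  obtain ⟨h1, h2⟩ := h
  simp only [not_not] at h2
  have h3 : phi C α (s C α) ∈ x.asIdeal := h1
  rw [phi_s] at h3
  have h4 : lam C α ∈ x.asIdeal := by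
    rw [lam]
    refine Ideal.sum_mem _ fun i _ => ?_
    exact Ideal.mul_mem_right _ _ (h2 i)
  apply x.isPrime.ne_top
  rw [Ideal.eq_top_iff_one]
  have := x.asIdeal.add_mem h3 h4
  rwa [sub_add_cancel] at this

theorem D_sup_D' : D C α ⊔ D' C α = ⊤ := by
  rw [eq_top_iff]
  intro x _
  rw [TopologicalSpace.Opens.mem_sup]
  by_contra h
  rw [not_or, mem_D, mem_D', not_not, not_not] at h
  apply x.isPrime.ne_top
  rw [Ideal.eq_top_iff_one]
  have := x.asIdeal.add_mem h.1 h.2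
  rwa [add_sub_cancel] at this

theorem D_inf_D' : D C α ⊓ D' C α ≤ p C α ⁻¹ᵁ T₀ C α := by
  intro x hx
  obtain ⟨h1, h2⟩ := hx
  rw [mem_V]
  by_contra h
  simp only [not_exists, not_not] at h
  have h1' : s C α ∉ x.asIdeal := h1
  have h2' : 1 - s C α ∉ x.asIdeal := h2
  have h3 : s C α * (1 - s C α) ∈ x.asIdeal := by
    rw [← relation]
    exact Ideal.sum_mem _ fun i _ => Ideal.mul_mem_right _ _ (h i)
  rcases x.isPrime.mem_or_mem h3 with h4 | h4
  · exact h1' h4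
  · exact h2' h4

theorem τ_preimage_D : τ C α ⁻¹ᵁ D C α = D' C α := by
  ext x
  change τ C α x ∈ D C α ↔ x ∈ D' C α
  rw [mem_D, mem_D']
  change tau C α (s C α) ∉ x.asIdeal ↔ _
  rw [tau_s]

theorem τ_preimage_V : τ C α ⁻¹ᵁ (p C α ⁻¹ᵁ T₀ C α) = p C α ⁻¹ᵁ T₀ C α := by
  rw [← Scheme.Hom.comp_preimage, τ_p]

theorem isIso_φ_D : IsIso (φ C α ∣_ D C α) := by
  let g : Localization.Away (s C α) →+* Localization.Away (phi C α (s C α)) := Localization.awayMap
      (phi C α : QR C α →+* MvPolynomial (Fin m) C) (s C α)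
  have h1 : IsIso (CommRingCat.ofHom g) := by
    rw [ConcreteCategory.isIso_iff_bijective]
    exact bijective_awayMap_phi C α
  have e := SpecMapRestrictBasicOpenIso
    (CommRingCat.ofHom (phi C α : QR C α →+* MvPolynomial (Fin m) C)) (s C α)
  have h2 : IsIso (Spec.map (CommRingCat.ofHom g)) := inferInstance
  exact ((MorphismProperty.isomorphisms Scheme.{u}).arrow_mk_iso_iff e).2 h2

end Groth.Agent.Vancyc.H685.QuadGeom
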