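import Groth.Agent.Vancyc.H685.QuadLoc
import Groth.Agent.Vancyc.H685.QuadGeom
import Groth.Agent.Vancyc.H263.LinearFib

/-!
# The family of quadrics is an affine bundle over the locus where some `α_i` is invertible
-/

set_option autoImplicit false
universe u
open CategoryTheory CategoryTheory.Limits AlgebraicGeometry Opposite

namespace Groth.Agent.Vancyc.H685.AcycPoly

open Groth.Agent.Sga4B.AcycMor Groth.Agent.Vancyc.H685 Groth.Agent.Vancyc.H685.QuadAlg
  Groth.Agent.Vancyc.H685.QuadGeom Groth.Agent.Vancyc.H263.AffBundle Groth.Agent.Vancyc.H263.LinearFib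

theorem IsAff.of_arrowIso {m : ℕ} {X Y X' Y' : Scheme.{u}} {f : X ⟶ Y} {g : X' ⟶ Y'}
    (e : Arrow.mk f ≅ Arrow.mk g) (hg : IsAff m g) : IsAff m f := by
  have h1 : IsIso e.hom.left := inferInstance
  have h2 : IsIso e.hom.right := inferInstance
  exact hg.of_isPullback (q := e.hom.left) (y := e.hom.right) (IsPullback.of_horiz_isIso ⟨Arrow.w e.hom⟩)

/-- Restriction to a smaller open. -/
theorem isPullback_restrict_of_le {X Y : Scheme.{u}} (f : X ⟶ Y) {U V : Y.Opens} (h : V ≤ U) :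
    IsPullback (X.homOfLE (f.preimage_mono h)) (f ∣_ V) (f ∣_ U) (Y.homOfLE h) := by
  have h1 : IsPullback (f ∣_ V) (X.homOfLE (f.preimage_mono h)) (Y.homOfLE h) (f ∣_ U) := by
    refine IsPullback.of_bot ?_ (morphismRestrict_homOfLE f V U h) (isPullback_morphismRestrict f U)
    have h2 := isPullback_morphismRestrict f V
    rwa [← X.homOfLE_ι (f.preimage_mono h), ← Y.homOfLE_ι h] at h2
  exact h1.flip

/-- A morphism which is an affine space over opens `V i` is an affine bundle over their union. -/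
theorem isAffBundle_restrict_iSup {m : ℕ} {X Y : Scheme.{u}} (f : X ⟶ Y) {ι : Type*} (V : ι → Y.Opens)
    (h : ∀ i, IsAff m (f ∣_ V i)) : IsAffBundle m (f ∣_ (⨆ i, V i)) := by
  intro b
  obtain ⟨i, hi⟩ := TopologicalSpace.Opens.mem_iSup.mp b.2
  refine ⟨_, _, Y.homOfLE (le_iSup V i), X.homOfLE (f.preimage_mono (le_iSup V i)), f ∣_ V i,
    inferInstance, ?_, isPullback_restrict_of_le f (le_iSup V i), h i⟩
  refine ⟨⟨b.1, hi⟩, ?_⟩
  apply Subtype.ext
  exact congrArg (fun (k : (V i : Scheme.{u}) ⟶ Y) => k ⟨b.1, hi⟩) (Y.homOfLE_ι (le_iSup V i))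

variable (C : Type u) [CommRing C] {m : ℕ} (α : Fin m → C) (i : Fin m)

theorem card_vars : Nonempty (Vars i ≃ Fin m) := by
  classical
  refine ⟨Fintype.equivFinOfCardEq ?_⟩
  rw [Fintype.card_subtype_compl, Fintype.card_option, Fintype.card_fin]
  have : Fintype.card {o : Option (Fin m) // o = some i} = 1 := Fintype.card_subtype_eq _
  omega

theorem isAff_str : IsAff m (Spec.map (CommRingCat.ofHom (str C α i))) := by
  obtain ⟨e⟩ := card_vars i
  letI : Algebra (Ci C α i) (QRi C α i) := (str C α i).toAlgebra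
  let f : QRi C α i ≃ₐ[Ci C α i] MvPolynomial (Vars i) (Ci C α i) :=
    AlgEquiv.symm (AlgEquiv.ofRingEquiv (f := polyEquiv C α i) (fun c => by
      exact RingHom.congr_fun (polyEquiv_comp_C C α i) c))
  exact isAff_of_algEquiv (f.trans (MvPolynomial.renameEquiv (Ci C α i) e))

/-- Over `D(α_i)`, the quadric is an affine space. -/
theorem isAff_p : IsAff m (p C α ∣_ DT C α i) :=
  IsAff.of_arrowIso (SpecMapRestrictBasicOpenIso (CommRingCat.ofHom (algebraMap C (QR C α))) (α i))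
    (isAff_str C α i)

theorem isAff_e : IsAff m (e C m) := isAff_of_algEquiv AlgEquiv.refl

theorem isAff_restrict {m : ℕ} {X Y : Scheme.{u}} {f : X ⟶ Y} (hf : IsAff m f) (U : Y.Opens) :
    IsAff m (f ∣_ U) := hf.of_isPullback (isPullback_morphismRestrict f U).flip

theorem isAffBundle_p : IsAffBundle m (p C α ∣_ T₀ C α) :=
  isAffBundle_restrict_iSup _ _ (isAff_p C α)

section

variable {n : ℕ} (hn : IsUnit (n : C))

include hn in
theorem isUnit_T (U : (T C).Opens) : IsUnit (n : Γ(U, ⊤)) := by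
  have h1 := hn.map (Scheme.ΓSpecIso (CommRingCat.of C)).inv.hom
  have h2 := h1.map (Scheme.Hom.appTop U.ι).hom
  rwa [map_natCast, map_natCast] at h2

include hn in
theorem isUnit_T' : IsUnit (n : Γ(T C, ⊤)) := by
  have h1 := hn.map (Scheme.ΓSpecIso (CommRingCat.of C)).inv.hom
  rwa [map_natCast] at h1

include hn in
theorem acyc_e : Acyc n (e C m) := (isAff_e C).acyc (isUnit_T' C hn)

include hn in
theorem acyc_p_T₀ : Acyc n (p C α ∣_ T₀ C α) := (isAffBundle_p C α).acyc (isUnit_T C hn _)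

include hn in
theorem acyc_e_T₀ : Acyc n ((φ C α ≫ p C α) ∣_ T₀ C α) := by
  rw [φ_p]
  exact (isAff_restrict (isAff_e C) _).acyc (isUnit_T C hn _)

include hn in
/-- The open set `U₀ = D(s) ∪ p⁻¹ T₀` has the cohomology of `T`. -/
theorem bijective_U₀ (G : EtCoh.Ab (T C)) (hG : EtCoh.KilledBy n G) (q : ℕ) :
    haveI := Groth.Agent.S0101.result ((D C α ⊔ p C α ⁻¹ᵁ T₀ C α : (Y C α).Opens).ι ≫ p C α)
    Function.Bijective (Groth.Agent.Etcore.HpullCalc.hp
      ((D C α ⊔ p C α ⁻¹ᵁ T₀ C α : (Y C α).Opens).ι ≫ p C α) G q) :=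
  AcycOpen.bijective_hp_U₀ (φ C α) (p C α) (D C α) (T₀ C α) (isIso_φ_D C α)
    (by rw [φ_p]; exact acyc_e C hn) (acyc_e_T₀ C α hn) (acyc_p_T₀ C α hn) (φ_mem C α) G hG q

end

end Groth.Agent.Vancyc.H685.AcycPoly
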