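import Groth.Agent.Vancyc.H685.MVSwap

/-!
# Isomorphisms from Mayer-Vietoris

`X = U ∪ V`, `W = U ∩ V`: if the cohomology of `F` on `U` and `V` vanishes in degrees `n`, `n + 1` then
`H^n(W, F) ≃ H^{n+1}(X, F)`.
-/

set_option autoImplicit false
set_option backward.isDefEq.respectTransparency false
set_option backward.isDefEq.respectTransparency.types false
open CategoryTheory CategoryTheory.Limits AlgebraicGeometry Opposite CategoryTheory.Abelian
universe u

namespace Groth.Agent.Vancyc.H685.MVIso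

open Groth.Agent.Etcore.ShriekBasic Groth.Agent.Etcore.ShriekUnique Groth.Agent.Etcore.Stalks
open Groth.Agent.Etcore.MVShriek Groth.Agent.Etcore.PullCoh
open scoped Groth.Agent.Etcore.EtInst
open Groth.Agent.Etcore.EtInst Groth.Agent.Etcore.HpullCalc Groth.Agent.Etcore
open Groth.Agent.Etcore.MVbc Groth.Agent.Sga4B

variable {X U V W : Scheme.{u}} (j : U ⟶ X) (k : V ⟶ X) (w : W ⟶ X) [IsOpenImmersion j]
  [IsOpenImmersion k] [IsOpenImmersion w] (hjk : Set.range w = Set.range j ∩ Set.range k)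
  (hcov : Set.range j ∪ Set.range k = Set.univ) (F : EtCoh.Ab X)

/-- `Ext^n(j_! Z ⊕ k_! Z, F) = H^n(U, F) ⊕ H^n(V, F)` vanishes. -/
theorem mid_eq_zero (n : ℕ) (hU : Subsingleton (HH U ((EtCoh.pull j).obj F) n))
    (hV : Subsingleton (HH V ((EtCoh.pull k).obj F) n))
    (e : Ext.{u + 1} (P j (EtCoh.const X ℤ) ⊞ P k (EtCoh.const X ℤ)) F n) : e = 0 := by
  have ij := pfl j
  have ik := pfl k
  have hj0 : ∀ e' : Ext.{u + 1} (P j (EtCoh.const X ℤ)) F n, e' = 0 :=
    fun e' => (psi_bijective j F n).1 (hU.elim _ _)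
  have hk0 : ∀ e' : Ext.{u + 1} (P k (EtCoh.const X ℤ)) F n, e' = 0 :=
    fun e' => (psi_bijective k F n).1 (hV.elim _ _)
  exact MVbcAbs.ext_biprod_eq_zero _ _ n (𝟭 (EtCoh.Ab X)) _ e (hj0 _) (hk0 _)

/-- The map `Ext^n(w_! Z, F) ⟶ H^{n+1}(X, F)`. -/
noncomputable def del (n : ℕ) : Ext.{u + 1} (P w (EtCoh.const X ℤ)) F n →+ HH X F (n + 1) :=
  (shortExact_mv j k w hjk (EtCoh.const X ℤ) hcov).extClass.precomp F (add_comm 1 n)

theorem del_surjective (n : ℕ) (hU' : Subsingleton (HH U ((EtCoh.pull j).obj F) (n + 1)))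
    (hV' : Subsingleton (HH V ((EtCoh.pull k).obj F) (n + 1))) :
    Function.Surjective (del j k w hjk hcov F n) := by
  intro y
  obtain ⟨x, hx⟩ := Ext.contravariant_sequence_exact₃ (shortExact_mv j k w hjk (EtCoh.const X ℤ) hcov)
    F y (mid_eq_zero j k F (n + 1) hU' hV' _) (add_comm 1 n)
  exact ⟨x, hx⟩

theorem del_injective (n : ℕ) (hU : Subsingleton (HH U ((EtCoh.pull j).obj F) n))
    (hV : Subsingleton (HH V ((EtCoh.pull k).obj F) n)) :
    Function.Injective (del j k w hjk hcov F n) := by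
  rw [injective_iff_map_eq_zero]
  intro x hx
  obtain ⟨x₂, hx₂⟩ := Ext.contravariant_sequence_exact₁ (shortExact_mv j k w hjk (EtCoh.const X ℤ) hcov)
    F x (add_comm 1 n) hx
  rw [← hx₂, mid_eq_zero j k F n hU hV x₂, Ext.comp_zero]

include hjk hcov in
theorem nonempty_equiv (n : ℕ)
    (hU : Subsingleton (HH U ((EtCoh.pull j).obj F) n))
    (hV : Subsingleton (HH V ((EtCoh.pull k).obj F) n))
    (hU' : Subsingleton (HH U ((EtCoh.pull j).obj F) (n + 1)))
    (hV' : Subsingleton (HH V ((EtCoh.pull k).obj F) (n + 1))) :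
    Nonempty (HH W ((EtCoh.pull w).obj F) n ≃+ HH X F (n + 1)) := by
  have iw := pfl w
  have e1 : Ext.{u + 1} (P w (EtCoh.const X ℤ)) F n ≃+ HH X F (n + 1) :=
    AddEquiv.ofBijective (del j k w hjk hcov F n)
      ⟨del_injective j k w hjk hcov F n hU hV, del_surjective j k w hjk hcov F n hU' hV'⟩
  have e2 : Ext.{u + 1} (P w (EtCoh.const X ℤ)) F n ≃+ HH W ((EtCoh.pull w).obj F) n :=
    AddEquiv.ofBijective (psi w F n) (psi_bijective w F n)
  exact ⟨e2.symm.trans e1⟩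

end Groth.Agent.Vancyc.H685.MVIso
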