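import Groth.Agent.Etcore.MVbc
import Groth.Agent.Sga4B.HVia

/-!
# The Mayer-Vietoris boundary map and an involution exchanging the two open subschemes

`X = U ∪ V`, `W = U ∩ V`, `g : X ⟶ X` with `g⁻¹ U = V`, `g⁻¹ V = U`, over a base `t : X ⟶ B`.  If
`H^{n+1}` vanishes on `U` and `V` and `g` acts trivially on `H^n(W, G)` then it acts as `-1` on
`H^{n+1}(X, G)`.
-/

set_option autoImplicit false
set_option backward.isDefEq.respectTransparency false
set_option backward.isDefEq.respectTransparency.types false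
open CategoryTheory CategoryTheory.Limits AlgebraicGeometry Opposite CategoryTheory.Abelian
universe u

namespace Groth.Agent.Vancyc.H685.MVSwap

open Groth.Agent.Etcore.ShriekBasic Groth.Agent.Etcore.ShriekUnique Groth.Agent.Etcore.Stalks
open Groth.Agent.Etcore.MVShriek Groth.Agent.Etcore.MVEt Groth.Agent.Etcore.PullCoh
open scoped Groth.Agent.Etcore.EtInst
open Groth.Agent.Etcore.EtInst Groth.Agent.Etcore.HpullCalc Groth.Agent.Etcore
open Groth.Agent.Etcore.MVbc Groth.Agent.Sga4B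

variable {X U V W : Scheme.{u}}

section Classes

variable (j : U ⟶ X) [IsOpenImmersion j] (k : V ⟶ X) [IsOpenImmersion k]
  (w : W ⟶ X) [IsOpenImmersion w]
  (hjk : Set.range w = Set.range j ∩ Set.range k) (hkj : Set.range w = Set.range k ∩ Set.range j)
  (hcov : Set.range j ∪ Set.range k = Set.univ) (hcov' : Set.range k ∪ Set.range j = Set.univ)

/-- The extension class of the Mayer-Vietoris sequence. -/
noncomputable def cls : Ext.{u + 1} (EtCoh.const X ℤ) (P w (EtCoh.const X ℤ)) 1 :=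
  (shortExact_mv j k w hjk (EtCoh.const X ℤ) hcov).extClass

/-- Exchanging the two open subschemes changes the sign. -/
theorem cls_swap : cls k j w hkj hcov' = -cls j k w hjk hcov := by
  let φ : ShortComplex.mk _ _ (zero_mv j k w hjk (EtCoh.const X ℤ)) ⟶
      ShortComplex.mk _ _ (zero_mv k j w hkj (EtCoh.const X ℤ)) :=
    { τ₁ := -𝟙 _
      τ₂ := biprod.desc biprod.inr biprod.inl
      τ₃ := 𝟙 _
      comm₁₂ := by
        dsimp
        rw [biprod.lift_desc]
        apply biprod.hom_ext <;> simp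
      comm₂₃ := by
        dsimp
        rw [Category.comp_id]
        apply biprod.hom_ext' <;> simp }
  have h := ShortComplex.ShortExact.extClass_naturality
    (shortExact_mv j k w hjk (EtCoh.const X ℤ) hcov)
    (shortExact_mv k j w hkj (EtCoh.const X ℤ) hcov') φ
  have h1 : (Ext.mk₀ φ.τ₃).comp (shortExact_mv k j w hkj (EtCoh.const X ℤ) hcov').extClass
      (zero_add 1) = cls k j w hkj hcov' := Ext.mk₀_id_comp _
  have h2 : (shortExact_mv j k w hjk (EtCoh.const X ℤ) hcov).extClass.comp (Ext.mk₀ φ.τ₁)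
      (add_zero 1) = -cls j k w hjk hcov := by
    change (cls j k w hjk hcov).comp (Ext.mk₀ (-𝟙 (P w (EtCoh.const X ℤ)))) (add_zero 1) = _
    rw [Ext.mk₀_neg, Ext.comp_neg, Ext.comp_mk₀_id]
  exact h1.symm.trans (h.symm.trans h2)

end Classes

section Bc

variable {X' U' W' : Scheme.{u}} (g : X' ⟶ X) (j : U ⟶ X) [IsOpenImmersion j]
  (j' : U' ⟶ X') [IsOpenImmersion j'] (w : W ⟶ X) [IsOpenImmersion w]
  (w' : W' ⟶ X') [IsOpenImmersion w']
  (hj : Set.range j' = g ⁻¹' Set.range j) (hw : Set.range w' = g ⁻¹' Set.range w)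
  (hwj : Set.range w ⊆ Set.range j) (hwj' : Set.range w' ⊆ Set.range j')

theorem ca_bmap : ca j' w' hwj' (EtCoh.const X' ℤ) ≫ bmap g j j' hj =
    bmap g w w' hw ≫ (EtCoh.pull g).map (ca j w hwj (EtCoh.const X ℤ)) := by
  have i1 := pfl g
  have hm := mono_c j (EtCoh.const X ℤ)
  have hm' : Mono ((EtCoh.pull g).map (c j (EtCoh.const X ℤ))) := inferInstance
  rw [← cancel_mono ((EtCoh.pull g).map (c j (EtCoh.const X ℤ)))]
  rw [Category.assoc, Category.assoc, bmap_c, ← Functor.map_comp, ca_c, bmap_c,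
    ← Category.assoc, ca_c]

end Bc

section Nat

variable {X' U' V' W' : Scheme.{u}} (g : X' ⟶ X) [PreservesFiniteLimits (EtCoh.pull g)]
  (j : U ⟶ X) [IsOpenImmersion j] (j' : U' ⟶ X') [IsOpenImmersion j']
  (k : V ⟶ X) [IsOpenImmersion k] (k' : V' ⟶ X') [IsOpenImmersion k']
  (w : W ⟶ X) [IsOpenImmersion w] (w' : W' ⟶ X') [IsOpenImmersion w']
  (hj : Set.range j' = g ⁻¹' Set.range j) (hk : Set.range k' = g ⁻¹' Set.range k)
  (hw : Set.range w' = g ⁻¹' Set.range w)
  (hjk : Set.range w = Set.range j ∩ Set.range k) (hjk' : Set.range w' = Set.range j' ∩ Set.range k')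
  (hcov : Set.range j ∪ Set.range k = Set.univ) (hcov' : Set.range j' ∪ Set.range k' = Set.univ)

include hj hk in
/-- Naturality of the Mayer-Vietoris class. -/
theorem cls_nat :
    (cls j' k' w' hjk' hcov').comp (Ext.mk₀ (bmap g w w' hw)) (add_zero 1) =
      (Ext.mk₀ (EtCore.pullConst g ℤ).inv).comp
        ((cls j k w hjk hcov).mapExactFunctor (EtCoh.pull g)) (zero_add 1) := by
  let φ : ShortComplex.mk _ _ (zero_mv j' k' w' hjk' (EtCoh.const X' ℤ)) ⟶
      (ShortComplex.mk _ _ (zero_mv j k w hjk (EtCoh.const X ℤ))).map (EtCoh.pull g) :=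
    { τ₁ := bmap g w w' hw
      τ₂ := biprod.desc (bmap g j j' hj ≫ (EtCoh.pull g).map biprod.inl)
        (bmap g k k' hk ≫ (EtCoh.pull g).map biprod.inr)
      τ₃ := (EtCore.pullConst g ℤ).inv
      comm₁₂ := by
        have e1 := ca_bmap g j j' w w' hj hw (hj_of j k w hjk) (hj_of j' k' w' hjk')
        have e2 := ca_bmap g k k' w w' hk hw (hk_of j k w hjk) (hk_of j' k' w' hjk')
        have e3 : biprod.lift (ca j w (hj_of j k w hjk) (EtCoh.const X ℤ))
            (-ca k w (hk_of j k w hjk) (EtCoh.const X ℤ)) =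
            ca j w (hj_of j k w hjk) (EtCoh.const X ℤ) ≫ biprod.inl +
              -(ca k w (hk_of j k w hjk) (EtCoh.const X ℤ) ≫ biprod.inr) := by
          apply biprod.hom_ext <;> simp
        change bmap g w w' hw ≫ (EtCoh.pull g).map (biprod.lift (ca j w (hj_of j k w hjk) (EtCoh.const X ℤ))
            (-ca k w (hk_of j k w hjk) (EtCoh.const X ℤ))) =
          biprod.lift (ca j' w' (hj_of j' k' w' hjk') (EtCoh.const X' ℤ))
            (-ca k' w' (hk_of j' k' w' hjk') (EtCoh.const X' ℤ)) ≫ _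
        rw [biprod.lift_desc, Preadditive.neg_comp, reassoc_of% e1, reassoc_of% e2,
          ← Functor.map_comp, ← Functor.map_comp, ← Preadditive.comp_neg, ← Preadditive.comp_add,
          ← Functor.map_neg, ← Functor.map_add]
        exact congrArg (fun a => bmap g w w' hw ≫ (EtCoh.pull g).map a) e3
      comm₂₃ := by
        change _ ≫ (EtCoh.pull g).map (biprod.desc (c j (EtCoh.const X ℤ)) (c k (EtCoh.const X ℤ))) =
          biprod.desc (c j' (EtCoh.const X' ℤ)) (c k' (EtCoh.const X' ℤ)) ≫ _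
        apply biprod.hom_ext'
        · rw [biprod.inl_desc_assoc, biprod.inl_desc_assoc, Category.assoc, ← Functor.map_comp,
            biprod.inl_desc, bmap_c]
        · rw [biprod.inr_desc_assoc, biprod.inr_desc_assoc, Category.assoc, ← Functor.map_comp,
            biprod.inr_desc, bmap_c] }
  have h := ShortComplex.ShortExact.extClass_naturality
    (shortExact_mv j' k' w' hjk' (EtCoh.const X' ℤ) hcov')
    ((shortExact_mv j k w hjk (EtCoh.const X ℤ) hcov).map_of_exact (EtCoh.pull g)) φ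
  refine Eq.trans h ?_
  congr 1
  exact (Ext.mapExactFunctor_extClass _ _).symm

end Nat

section Swap

variable {B : Scheme.{u}} (t : X ⟶ B) (g : X ⟶ X) (hgt : g ≫ t = t)
  [PreservesFiniteLimits (EtCoh.pull g)]
  (j : U ⟶ X) [IsOpenImmersion j] (k : V ⟶ X) [IsOpenImmersion k]
  (w : W ⟶ X) [IsOpenImmersion w]
  (hjk : Set.range w = Set.range j ∩ Set.range k)
  (hcov : Set.range j ∪ Set.range k = Set.univ)
  (hgj : Set.range k = g ⁻¹' Set.range j) (hgk : Set.range j = g ⁻¹' Set.range k)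
  (gW : W ⟶ W) [PreservesFiniteLimits (EtCoh.pull gW)] (hgW : gW ≫ w = w ≫ g)
  (G : EtCoh.Ab B) (n : ℕ)

include hgW in
/-- `e ↦ (bmap, pull g e)` followed by the transport `g⁻¹ t⁻¹ G = t⁻¹ G`. -/
theorem psi_transport (hw : Set.range w = g ⁻¹' Set.range w)
    (hgWt : gW ≫ w ≫ t = w ≫ t)
    (x : Ext.{u + 1} (P w (EtCoh.const X ℤ)) ((EtCoh.pull t).obj G) n) :
    have := pfl w
    HHmap (th w t (w ≫ t) rfl G) n (psi w ((EtCoh.pull t).obj G) n
      ((ExtMap.extMap (EtCoh.pull g) (bmap g w w hw) ((EtCoh.pull t).obj G) n x).comp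
        (Ext.mk₀ (th g t t hgt G)) (add_zero n))) =
    hpVia gW (w ≫ t) (w ≫ t) hgWt G n
      (HHmap (th w t (w ≫ t) rfl G) n (psi w ((EtCoh.pull t).obj G) n x)) := by
  have i1 := pfl w
  have i2 := pfl (gW ≫ w)
  have h1 : psi w ((EtCoh.pull t).obj G) n
      ((ExtMap.extMap (EtCoh.pull g) (bmap g w w hw) ((EtCoh.pull t).obj G) n x).comp
        (Ext.mk₀ (th g t t hgt G)) (add_zero n)) =
      HHmap ((EtCoh.pull w).map (th g t t hgt G)) n (psi w ((EtCoh.pull g).obj ((EtCoh.pull t).obj G)) n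
        (ExtMap.extMap (EtCoh.pull g) (bmap g w w hw) ((EtCoh.pull t).obj G) n x)) :=
    ExtMap.extMap_comp_mk₀ (EtCoh.pull w) (uj w) (th g t t hgt G) n _
  have h2 := th_assoc w g t (w ≫ g) t (w ≫ t) rfl hgt rfl (by rw [Category.assoc, hgt]) G
  have h3 := square g w w hw gW (w ≫ g) hgW rfl ((EtCoh.pull t).obj G) n x
  have h4 := th_assoc gW w t (w ≫ g) (w ≫ t) (w ≫ t) hgW rfl hgWt (by rw [Category.assoc, hgt]) G
  have h5 : HHmap (th w g (w ≫ g) rfl ((EtCoh.pull t).obj G)) n
      (psi w ((EtCoh.pull g).obj ((EtCoh.pull t).obj G)) n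
        (ExtMap.extMap (EtCoh.pull g) (bmap g w w hw) ((EtCoh.pull t).obj G) n x)) =
      HHmap (th gW w (w ≫ g) hgW ((EtCoh.pull t).obj G)) n
        (hp gW ((EtCoh.pull w).obj ((EtCoh.pull t).obj G)) n (psi w ((EtCoh.pull t).obj G) n x)) := h3
  dsimp only
  rw [h1, ← HHmap_comp, h2, HHmap_comp, h5, ← HHmap_comp, ← h4, HHmap_comp, ← hp_map,
    ← HVia.hpVia_eq_th]

omit [PreservesFiniteLimits (EtCoh.pull g)] [IsOpenImmersion j] [IsOpenImmersion k]
  [IsOpenImmersion w] in
include hgj hgk hjk in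
theorem range_w : Set.range w = g ⁻¹' Set.range w := by
  conv_rhs => rw [hjk, Set.preimage_inter, ← hgj, ← hgk]
  rw [hjk, Set.inter_comm]

include hgj hgk hjk hcov hgW in
/-- **The sign of the swap.** -/
theorem hpVia_eq_neg
    (hU : Subsingleton (HH U ((EtCoh.pull j).obj ((EtCoh.pull t).obj G)) (n + 1)))
    (hV : Subsingleton (HH V ((EtCoh.pull k).obj ((EtCoh.pull t).obj G)) (n + 1)))
    (hgWt : gW ≫ w ≫ t = w ≫ t)
    (htriv : ∀ x : HH W ((EtCoh.pull (w ≫ t)).obj G) n,
      hpVia gW (w ≫ t) (w ≫ t) hgWt G n x = x)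
    (y : HH X ((EtCoh.pull t).obj G) (n + 1)) :
    hpVia g t t hgt G (n + 1) y = -y := by
  have iw := pfl w
  have ij := pfl j
  have ik := pfl k
  have hw : Set.range w = g ⁻¹' Set.range w := range_w g j k w hjk hgj hgk
  have hkj : Set.range w = Set.range k ∩ Set.range j := by rw [hjk, Set.inter_comm]
  have hcov' : Set.range k ∪ Set.range j = Set.univ := by rw [Set.union_comm, hcov]
  have hS := shortExact_mv j k w hjk (EtCoh.const X ℤ) hcov
  -- the middle group vanishes
  have hmid : ∀ e : Ext.{u + 1} (P j (EtCoh.const X ℤ) ⊞ P k (EtCoh.const X ℤ))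
      ((EtCoh.pull t).obj G) (n + 1), e = 0 := by
    intro e
    have hj0 : ∀ e' : Ext.{u + 1} (P j (EtCoh.const X ℤ)) ((EtCoh.pull t).obj G) (n + 1), e' = 0 :=
      fun e' => (psi_bijective j ((EtCoh.pull t).obj G) (n + 1)).1 (hU.elim _ _)
    have hk0 : ∀ e' : Ext.{u + 1} (P k (EtCoh.const X ℤ)) ((EtCoh.pull t).obj G) (n + 1), e' = 0 :=
      fun e' => (psi_bijective k ((EtCoh.pull t).obj G) (n + 1)).1 (hV.elim _ _)
    exact MVbcAbs.ext_biprod_eq_zero _ _ (n + 1) (𝟭 (EtCoh.Ab X)) _ e (hj0 _) (hk0 _)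
  obtain ⟨x, rfl⟩ := Ext.contravariant_sequence_exact₃ hS ((EtCoh.pull t).obj G) y (hmid _)
    (add_comm 1 n)
  have hcls : hS.extClass = cls j k w hjk hcov := rfl
  set z := ExtMap.extMap (EtCoh.pull g) (bmap g w w hw) ((EtCoh.pull t).obj G) n x with hz
  -- the transported class
  have hzx : z.comp (Ext.mk₀ (th g t t hgt G)) (add_zero n) = x := by
    apply (psi_bijective w ((EtCoh.pull t).obj G) n).1
    apply (HVia.th_bijective w t (w ≫ t) rfl G n).1
    have h1 := psi_transport t g hgt w gW hgW G n hw hgWt x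
    dsimp only at h1
    rw [h1, htriv]
  have h1 : hp g ((EtCoh.pull t).obj G) (n + 1) (hS.extClass.comp x (add_comm 1 n)) =
      (cls k j w hkj hcov').comp z (add_comm 1 n) := by
    have h2 := cls_nat g j k k j w w hgj hgk hw hjk hkj hcov hcov'
    rw [hp_apply, Ext.mapExactFunctor_comp, hcls]
    have h3 : (Ext.mk₀ (EtCore.pullConst g ℤ).inv).comp
        (((cls j k w hjk hcov).mapExactFunctor (EtCoh.pull g)).comp
          (x.mapExactFunctor (EtCoh.pull g)) (add_comm 1 n)) (zero_add (n + 1)) =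
        ((Ext.mk₀ (EtCore.pullConst g ℤ).inv).comp
          ((cls j k w hjk hcov).mapExactFunctor (EtCoh.pull g)) (zero_add 1)).comp
          (x.mapExactFunctor (EtCoh.pull g)) (add_comm 1 n) :=
      (Ext.comp_assoc _ _ _ _ _ (by omega)).symm
    rw [h3, ← h2]
    exact Ext.comp_assoc_of_second_deg_zero _ _ _ _
  rw [HVia.hpVia_eq_th, h1, HHmap_apply, cls_swap j k w hjk hkj hcov hcov', Ext.neg_comp,
    Ext.neg_comp]
  congr 1
  have h4 : ((cls j k w hjk hcov).comp z (add_comm 1 n)).comp (Ext.mk₀ (th g t t hgt G))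
      (add_zero (n + 1)) =
      (cls j k w hjk hcov).comp (z.comp (Ext.mk₀ (th g t t hgt G)) (add_zero n)) (add_comm 1 n) :=
    Ext.comp_assoc_of_third_deg_zero _ _ _ _
  rw [h4, hzx]
  rfl

end Swap

end Groth.Agent.Vancyc.H685.MVSwap
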