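import Mathlib.Algebra.MvPolynomial.Equiv
import Mathlib.RingTheory.Localization.Away.Basic
import Mathlib.RingTheory.Ideal.Quotient.Operations
import Mathlib.Tactic.LinearCombination
import Mathlib.Tactic.Ring

/-!
# The coordinate ring of the quadric `∑ α_i y_i = s (1 - s)` over a ring `C`

* `QR C α = C[y, s]/(∑ α_i y_i - s (1 - s))`, `lift`, `hom_ext`;
* `tau`: the involution `s ↦ 1 - s`;
* `phi : QR C α →ₐ[C] C[b]`, `y_i ↦ (1 - λ) b_i`, `s ↦ 1 - λ`, `λ = ∑ α_i b_i`; it becomes an isomorphism after
  inverting `s`.
-/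

set_option autoImplicit false
universe u v

open MvPolynomial

namespace Groth.Agent.Vancyc.H685.QuadAlg

variable (C : Type u) [CommRing C] {m : ℕ} (α : Fin m → C)

/-- The relation `∑ α_i y_i - s (1 - s)`. -/
noncomputable def rel : MvPolynomial (Option (Fin m)) C :=
  ∑ i, MvPolynomial.C (α i) * X (some i) - X none * (1 - X none)

/-- The ring `C[y, s]/(∑ α_i y_i - s (1 - s))`. -/
abbrev QR : Type u := MvPolynomial (Option (Fin m)) C ⧸ Ideal.span {rel C α}

/-- The coordinate `y_i`. -/
noncomputable def y (i : Fin m) : QR C α := Ideal.Quotient.mk _ (X (some i))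

/-- The coordinate `s`. -/
noncomputable def s : QR C α := Ideal.Quotient.mk _ (X none)

theorem relation : ∑ i, algebraMap C (QR C α) (α i) * y C α i = s C α * (1 - s C α) := by
  have h : Ideal.Quotient.mk (Ideal.span {rel C α}) (rel C α) = 0 :=
    Ideal.Quotient.eq_zero_iff_mem.2 (Ideal.subset_span rfl)
  have h1 : Ideal.Quotient.mk (Ideal.span {rel C α}) (rel C α) =
      ∑ i, algebraMap C (QR C α) (α i) * y C α i - s C α * (1 - s C α) := by
    conv_lhs => arg 2; rw [rel]
    rw [map_sub, map_sum, map_mul, map_sub, map_one]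
    rfl
  rw [h1, sub_eq_zero] at h
  exact h

variable {C α} {D : Type v} [CommRing D] [Algebra C D]

/-- Homomorphisms out of `QR C α`. -/
noncomputable def lift (β : Fin m → D) (t : D) (h : ∑ i, algebraMap C D (α i) * β i = t * (1 - t)) :
    QR C α →ₐ[C] D :=
  Ideal.Quotient.liftₐ _ (aeval (fun o : Option (Fin m) => o.elim t β)) (by
    intro a ha
    have : Ideal.span {rel C α} ≤ RingHom.ker (aeval (R := C) (fun o : Option (Fin m) => o.elim t β)) := by
      rw [Ideal.span_le, Set.singleton_subset_iff]
      change aeval (fun o : Option (Fin m) => o.elim t β) (rel C α) = 0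
      simp [rel, h]
    exact this ha)

@[simp]
theorem lift_y (β : Fin m → D) (t : D) (h : ∑ i, algebraMap C D (α i) * β i = t * (1 - t)) (i : Fin m) :
    lift β t h (y C α i) = β i := by
  change aeval (fun o : Option (Fin m) => o.elim t β) (X (some i)) = β i
  simp

@[simp]
theorem lift_s (β : Fin m → D) (t : D) (h : ∑ i, algebraMap C D (α i) * β i = t * (1 - t)) :
    lift β t h (s C α) = t := by
  change aeval (fun o : Option (Fin m) => o.elim t β) (X none) = t
  simp

theorem hom_ext {f g : QR C α →ₐ[C] D} (h1 : ∀ i, f (y C α i) = g (y C α i))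
    (h2 : f (s C α) = g (s C α)) : f = g := by
  apply Ideal.Quotient.algHom_ext
  apply MvPolynomial.algHom_ext
  intro o
  cases o with
  | none => exact h2
  | some i => exact h1 i

variable (C α)

/-- The involution `s ↦ 1 - s`. -/
noncomputable def tau : QR C α →ₐ[C] QR C α :=
  lift (y C α) (1 - s C α) (by rw [relation, sub_sub_cancel, mul_comm])

@[simp]
theorem tau_y (i : Fin m) : tau C α (y C α i) = y C α i := lift_y _ _ _ _

@[simp]
theorem tau_s : tau C α (s C α) = 1 - s C α := lift_s _ _ _

theorem tau_tau : (tau C α).comp (tau C α) = AlgHom.id C _ := by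
  apply hom_ext
  · intro i; simp
  · simp

/-- The linear form `λ = ∑ α_i b_i`. -/
noncomputable def lam : MvPolynomial (Fin m) C := ∑ i, MvPolynomial.C (α i) * X i

/-- The map `QR C α → C[b]`, `y_i ↦ (1 - λ) b_i`, `s ↦ 1 - λ`. -/
noncomputable def phi : QR C α →ₐ[C] MvPolynomial (Fin m) C :=
  lift (fun i => (1 - lam C α) * X i) (1 - lam C α) (by
    rw [sub_sub_cancel, MvPolynomial.algebraMap_eq]
    have h : (1 - lam C α) * lam C α = ∑ i, (1 - lam C α) * (MvPolynomial.C (α i) * X i) :=
      Finset.mul_sum _ _ _
    rw [h]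
    exact Finset.sum_congr rfl fun i _ => by ring)

@[simp]
theorem phi_y (i : Fin m) : phi C α (y C α i) = (1 - lam C α) * X i := lift_y _ _ _ _

@[simp]
theorem phi_s : phi C α (s C α) = 1 - lam C α := lift_s _ _ _

/-- `phi` becomes an isomorphism after inverting `s`. -/
theorem bijective_awayMap_phi :
    Function.Bijective (Localization.awayMap (phi C α : QR C α →+* MvPolynomial (Fin m) C) (s C α)) := by
  let L := Localization.Away (s C α)
  let M := Localization.Away ((phi C α : QR C α →+* MvPolynomial (Fin m) C) (s C α))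
  let σ : L := IsLocalization.Away.invSelf (s C α)
  have hσ : algebraMap (QR C α) L (s C α) * σ = 1 := IsLocalization.Away.mul_invSelf (s C α)
  -- the inverse on `C[b]`
  let ψ : MvPolynomial (Fin m) C →ₐ[C] L := aeval fun i => algebraMap (QR C α) L (y C α i) * σ
  have hψX : ∀ i, ψ (X i) = algebraMap (QR C α) L (y C α i) * σ := fun i => aeval_X _ i
  have hψlam : ψ (lam C α) = 1 - algebraMap (QR C α) L (s C α) := by
    have h1 : ψ (lam C α) = algebraMap (QR C α) L (∑ i, algebraMap C (QR C α) (α i) * y C α i) * σ := by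
      rw [lam, map_sum, map_sum, Finset.sum_mul]
      refine Finset.sum_congr rfl fun i _ => ?_
      rw [map_mul, hψX, map_mul, ← MvPolynomial.algebraMap_eq, AlgHom.commutes,
        ← IsScalarTower.algebraMap_apply, mul_assoc]
    rw [h1, relation, map_mul, map_sub, map_one]
    linear_combination (1 - algebraMap (QR C α) L (s C α)) * hσ
  have hψs : ψ ((phi C α : QR C α →+* MvPolynomial (Fin m) C) (s C α)) = algebraMap (QR C α) L (s C α) := by
    change ψ (phi C α (s C α)) = _
    rw [phi_s, map_sub, map_one, hψlam, sub_sub_cancel]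
  have hu : IsUnit ((ψ : MvPolynomial (Fin m) C →+* L) ((phi C α : QR C α →+* MvPolynomial (Fin m) C) (s C α))) := by
    change IsUnit (ψ _)
    rw [hψs]
    exact IsLocalization.Away.algebraMap_isUnit (s C α)
  let Ψ : M →+* L := IsLocalization.Away.lift (x := (phi C α : QR C α →+* MvPolynomial (Fin m) C) (s C α))
    (S := M) (g := (ψ : MvPolynomial (Fin m) C →+* L)) hu
  have hΨ : ∀ p, Ψ (algebraMap _ M p) = ψ p := fun p => IsLocalization.Away.lift_eq _ hu p
  have hΦ : ∀ q : QR C α, Localization.awayMap (phi C α : QR C α →+* MvPolynomial (Fin m) C) (s C α)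
      (algebraMap _ L q) = algebraMap _ M (phi C α q) := fun q => IsLocalization.map_eq _ q
  have hψphi : ∀ q : QR C α, ψ (phi C α q) = algebraMap (QR C α) L q := by
    intro q
    have : (ψ.comp (phi C α)) = (IsScalarTower.toAlgHom C (QR C α) L) := by
      apply hom_ext
      · intro i
        rw [AlgHom.comp_apply, phi_y, map_mul, map_sub, map_one, hψlam, hψX, sub_sub_cancel]
        change _ = algebraMap (QR C α) L (y C α i)
        linear_combination algebraMap (QR C α) L (y C α i) * hσ
      · rw [AlgHom.comp_apply, phi_s, map_sub, map_one, hψlam, sub_sub_cancel]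
        rfl
    exact AlgHom.congr_fun this q
  refine Function.bijective_iff_has_inverse.2 ⟨Ψ, ?_, ?_⟩
  · have : Ψ.comp (Localization.awayMap (phi C α : QR C α →+* MvPolynomial (Fin m) C) (s C α)) =
        RingHom.id L := by
      refine IsLocalization.ringHom_ext (Submonoid.powers (s C α)) (RingHom.ext fun q => ?_)
      rw [RingHom.comp_apply, RingHom.comp_apply, hΦ, hΨ, hψphi]
      rfl
    exact RingHom.congr_fun this
  · have : (Localization.awayMap (phi C α : QR C α →+* MvPolynomial (Fin m) C) (s C α)).comp Ψ =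
        RingHom.id M := by
      refine IsLocalization.ringHom_ext
        (Submonoid.powers ((phi C α : QR C α →+* MvPolynomial (Fin m) C) (s C α))) ?_
      refine MvPolynomial.ringHom_ext (fun c => ?_) (fun i => ?_)
      · rw [RingHom.comp_apply, RingHom.comp_apply, hΨ, ← MvPolynomial.algebraMap_eq, AlgHom.commutes,
          IsScalarTower.algebraMap_apply C (QR C α) L, hΦ, AlgHom.commutes]
        rfl
      · rw [RingHom.comp_apply, RingHom.comp_apply, hΨ, hψX, map_mul, hΦ, phi_y]
        have h3 : Localization.awayMap (phi C α : QR C α →+* MvPolynomial (Fin m) C) (s C α)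
            (algebraMap _ L (s C α)) * Localization.awayMap (phi C α : QR C α →+* MvPolynomial (Fin m) C) (s C α) σ
              = 1 := by rw [← map_mul, hσ, map_one]
        rw [hΦ, phi_s] at h3
        rw [map_mul]
        change _ = algebraMap (MvPolynomial (Fin m) C) M (X i)
        linear_combination algebraMap (MvPolynomial (Fin m) C) M (X i) * h3
    exact RingHom.congr_fun this

end Groth.Agent.Vancyc.H685.QuadAlg
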