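import Groth.Agent.Vancyc.H685.QuadAlg

/-!
# The quadric `∑ α_i y_i = s (1 - s)` over the locus where `α_i` is invertible

`QR C α` localized at `α_i` is a polynomial ring in `m` variables over `C[1/α_i]`.
-/

set_option autoImplicit false
universe u v

open MvPolynomial

namespace Groth.Agent.Vancyc.H685.QuadAlg

variable (C : Type u) [CommRing C] {m : ℕ} (α : Fin m → C) (i : Fin m)

/-- The remaining variables. -/
abbrev Vars : Type := {o : Option (Fin m) // o ≠ some i}

/-- `C[1/α_i]` -/
abbrev Ci : Type u := Localization.Away (α i)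

/-- `QR[1/α_i]` -/
abbrev QRi : Type u := Localization.Away (algebraMap C (QR C α) (α i))

/-- The inverse of `α_i`. -/
noncomputable def ainv : Ci C α i := IsLocalization.Away.invSelf (α i)

theorem ainv_mul : algebraMap C (Ci C α i) (α i) * ainv C α i = 1 :=
  IsLocalization.Away.mul_invSelf (α i)

/-- The structure map `C[1/α_i] → QR[1/α_i]`. -/
noncomputable abbrev str : Ci C α i →+* QRi C α i :=
  Localization.awayMap (algebraMap C (QR C α)) (α i)

theorem str_algebraMap (c : C) : str C α i (algebraMap C _ c) =
    algebraMap (QR C α) (QRi C α i) (algebraMap C (QR C α) c) := IsLocalization.map_eq _ c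

/-- The coordinates. -/
noncomputable def coordQ (o : Option (Fin m)) : QR C α := o.elim (s C α) (y C α)

/-- `C[1/α_i][Vars] → QR[1/α_i]`. -/
noncomputable def fromPoly : MvPolynomial (Vars i) (Ci C α i) →+* QRi C α i :=
  MvPolynomial.eval₂Hom (str C α i) (fun o => algebraMap (QR C α) (QRi C α i) (coordQ C α o.1))

/-- The value of `y_i` in terms of the other coordinates. -/
noncomputable def yval : MvPolynomial (Vars i) (Ci C α i) :=
  MvPolynomial.C (ainv C α i) * (X ⟨none, by simp⟩ * (1 - X ⟨none, by simp⟩) -
    ∑ j : Fin m, if h : j = i then 0 else MvPolynomial.C (algebraMap C _ (α j)) * X ⟨some j, by simpa using h⟩)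

/-- `QR → C[1/α_i][Vars]`. -/
noncomputable def toPoly0 : QR C α →ₐ[C] MvPolynomial (Vars i) (Ci C α i) :=
  lift (fun j => if h : j = i then yval C α i else X ⟨some j, by simpa using h⟩) (X ⟨none, by simp⟩) (by
    have h1 : ∀ j : Fin m, algebraMap C (MvPolynomial (Vars i) (Ci C α i)) (α j) *
        (if h : j = i then yval C α i else X ⟨some j, by simpa using h⟩) =
        (if j = i then MvPolynomial.C (algebraMap C _ (α i)) * yval C α i else 0) +
        (if h : j = i then 0 else MvPolynomial.C (algebraMap C _ (α j)) *
          X ⟨some j, by simpa using h⟩) := by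
      intro j
      have hC : algebraMap C (MvPolynomial (Vars i) (Ci C α i)) (α j) =
        MvPolynomial.C (algebraMap C _ (α j)) := rfl
      rw [hC]
      by_cases h : j = i
      · subst h
        simp
      · simp [h]
    rw [Finset.sum_congr rfl fun j _ => h1 j, Finset.sum_add_distrib, Finset.sum_ite_eq' Finset.univ i,
      if_pos (Finset.mem_univ i)]
    have h2 : MvPolynomial.C (algebraMap C (Ci C α i) (α i)) * yval C α i =
        X (⟨none, by simp⟩ : Vars i) * (1 - X ⟨none, by simp⟩) -
        ∑ j : Fin m, if h : j = i then 0 else MvPolynomial.C (algebraMap C _ (α j)) *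
          X (⟨some j, by simpa using h⟩ : Vars i) := by
      rw [yval, ← mul_assoc, ← map_mul, ainv_mul, map_one, one_mul]
    rw [h2, sub_add_cancel])

theorem toPoly0_algebraMap_unit :
    IsUnit ((toPoly0 C α i : QR C α →+* MvPolynomial (Vars i) (Ci C α i))
      (algebraMap C (QR C α) (α i))) := by
  change IsUnit (toPoly0 C α i (algebraMap C (QR C α) (α i)))
  rw [AlgHom.commutes]
  have h : algebraMap C (MvPolynomial (Vars i) (Ci C α i)) (α i) =
      algebraMap (Ci C α i) _ (algebraMap C _ (α i)) := rfl
  rw [h]
  exact (IsLocalization.Away.algebraMap_isUnit (α i)).map _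

/-- `QR[1/α_i] → C[1/α_i][Vars]`. -/
noncomputable def toPoly : QRi C α i →+* MvPolynomial (Vars i) (Ci C α i) :=
  IsLocalization.Away.lift (algebraMap C (QR C α) (α i)) (toPoly0_algebraMap_unit C α i)

theorem toPoly_algebraMap (q : QR C α) : toPoly C α i (algebraMap _ _ q) = toPoly0 C α i q :=
  IsLocalization.Away.lift_eq _ _ q

theorem toPoly_comp_fromPoly : (toPoly C α i).comp (fromPoly C α i) = RingHom.id _ := by
  refine MvPolynomial.ringHom_ext' ?_ fun o => ?_
  · refine IsLocalization.ringHom_ext (Submonoid.powers (α i)) (RingHom.ext fun c => ?_)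
    simp only [RingHom.comp_apply, fromPoly, MvPolynomial.coe_eval₂Hom, MvPolynomial.eval₂_C,
      RingHom.id_apply]
    rw [str_algebraMap, toPoly_algebraMap, AlgHom.commutes]
    rfl
  · simp only [RingHom.comp_apply, fromPoly, MvPolynomial.coe_eval₂Hom, MvPolynomial.eval₂_X,
      RingHom.id_apply]
    rw [toPoly_algebraMap]
    obtain ⟨o, ho⟩ := o
    cases o with
    | none => exact lift_s _ _ _
    | some j =>
      have hj : j ≠ i := by simpa using ho
      refine (lift_y _ _ _ j).trans ?_
      rw [dif_neg hj]

theorem fromPoly_comp_toPoly : (fromPoly C α i).comp (toPoly C α i) = RingHom.id _ := by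
  refine IsLocalization.ringHom_ext (Submonoid.powers (algebraMap C (QR C α) (α i)))
    (RingHom.ext fun q => ?_)
  rw [RingHom.comp_apply, RingHom.comp_apply, RingHom.comp_apply, RingHom.id_apply, toPoly_algebraMap]
  have hfC : ∀ c : C, fromPoly C α i (algebraMap C (MvPolynomial (Vars i) (Ci C α i)) c) =
      algebraMap (QR C α) (QRi C α i) (algebraMap C (QR C α) c) := by
    intro c
    have h : algebraMap C (MvPolynomial (Vars i) (Ci C α i)) c =
      MvPolynomial.C (algebraMap C _ c) := rfl
    rw [h, fromPoly, MvPolynomial.coe_eval₂Hom, MvPolynomial.eval₂_C, str_algebraMap]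
  let f : MvPolynomial (Vars i) (Ci C α i) →ₐ[C] QRi C α i :=
    { fromPoly C α i with
      commutes' := fun c => hfC c }
  have hf : ∀ x, f x = fromPoly C α i x := fun _ => rfl
  have hX : ∀ o : Vars i, fromPoly C α i (X o) = algebraMap (QR C α) (QRi C α i) (coordQ C α o.1) := by
    intro o
    rw [fromPoly, MvPolynomial.coe_eval₂Hom, MvPolynomial.eval₂_X]
  have hy : fromPoly C α i (yval C α i) = algebraMap (QR C α) (QRi C α i) (y C α i) := by
    have h1 := relation C α
    have h2 := congrArg (algebraMap (QR C α) (QRi C α i)) h1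
    have h3 : str C α i (algebraMap C _ (α i)) * str C α i (ainv C α i) = 1 := by
      rw [← map_mul, ainv_mul, map_one]
    have h4 : fromPoly C α i (yval C α i) = str C α i (ainv C α i) *
        (algebraMap (QR C α) (QRi C α i) (s C α) * (1 - algebraMap (QR C α) (QRi C α i) (s C α)) -
          ∑ j : Fin m, if j = i then 0 else
            algebraMap (QR C α) (QRi C α i) (algebraMap C (QR C α) (α j) * y C α j)) := by
      rw [yval, map_mul, map_sub, map_mul, map_sub, map_one, map_sum, hX]
      congr 1
      · rw [fromPoly, MvPolynomial.coe_eval₂Hom, MvPolynomial.eval₂_C]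
      · congr 1
        refine Finset.sum_congr rfl fun j _ => ?_
        by_cases h : j = i
        · subst h
          simp
        · rw [dif_neg h, if_neg h, map_mul, hX, map_mul]
          congr 1
          rw [fromPoly, MvPolynomial.coe_eval₂Hom, MvPolynomial.eval₂_C, str_algebraMap]
    have h5 : ∑ j, algebraMap (QR C α) (QRi C α i) (algebraMap C (QR C α) (α j) * y C α j) =
        algebraMap (QR C α) (QRi C α i) (algebraMap C (QR C α) (α i) * y C α i) +
        ∑ j : Fin m, if j = i then 0 else
            algebraMap (QR C α) (QRi C α i) (algebraMap C (QR C α) (α j) * y C α j) := by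
      have h6 : ∀ j : Fin m, algebraMap (QR C α) (QRi C α i) (algebraMap C (QR C α) (α j) * y C α j) =
          (if j = i then algebraMap (QR C α) (QRi C α i) (algebraMap C (QR C α) (α i) * y C α i) else 0) +
          (if j = i then 0 else
            algebraMap (QR C α) (QRi C α i) (algebraMap C (QR C α) (α j) * y C α j)) := by
        intro j
        by_cases h : j = i
        · subst h; simp
        · simp [h]
      rw [Finset.sum_congr rfl fun j _ => h6 j, Finset.sum_add_distrib, Finset.sum_ite_eq' Finset.univ i,
        if_pos (Finset.mem_univ i)]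
    have h7 : algebraMap (QR C α) (QRi C α i) (s C α * (1 - s C α)) =
        algebraMap (QR C α) (QRi C α i) (s C α) *
          (1 - algebraMap (QR C α) (QRi C α i) (s C α)) := by
      rw [map_mul, map_sub, map_one]
    rw [map_sum, h5, h7] at h2
    rw [h4, ← h2, add_sub_cancel_right, map_mul, ← str_algebraMap]
    linear_combination algebraMap (QR C α) (QRi C α i) (y C α i) * h3
  have key : f.comp (toPoly0 C α i) = IsScalarTower.toAlgHom C (QR C α) (QRi C α i) := by
    apply hom_ext
    · intro j
      rw [AlgHom.comp_apply, toPoly0, lift_y, hf]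
      by_cases h : j = i
      · subst h
        rw [dif_pos rfl]
        exact hy
      · rw [dif_neg h, hX]
        rfl
    · rw [AlgHom.comp_apply, toPoly0, lift_s, hf, hX]
      rfl
  exact AlgHom.congr_fun key q

/-- `C[1/α_i][Vars] ≃ QR[1/α_i]`. -/
noncomputable def polyEquiv : MvPolynomial (Vars i) (Ci C α i) ≃+* QRi C α i :=
  RingEquiv.ofRingHom (fromPoly C α i) (toPoly C α i) (fromPoly_comp_toPoly C α i)
    (toPoly_comp_fromPoly C α i)

theorem polyEquiv_comp_C :
    (polyEquiv C α i : MvPolynomial (Vars i) (Ci C α i) →+* QRi C α i).comp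
      (algebraMap (Ci C α i) (MvPolynomial (Vars i) (Ci C α i))) = str C α i := by
  ext c
  change fromPoly C α i (MvPolynomial.C c) = _
  rw [fromPoly, MvPolynomial.coe_eval₂Hom, MvPolynomial.eval₂_C]

end Groth.Agent.Vancyc.H685.QuadAlg
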