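import Groth.Agent.Vancyc.H685.MVSwap
import Groth.Agent.Vancyc.H685.AcycOpen
import Groth.Agent.Vancyc.H685.MVIso

/-!
# Cohomology of `Y = U₀ ∪ τ⁻¹ U₀` when `U₀` has the cohomology of the base

`p : Y ⟶ T`, `D ⊆ Y` and `T₀ ⊆ T` open, `τ` an involution of `Y` over `T` with `D ∪ τ⁻¹ D = Y` and
`D ∩ τ⁻¹ D ⊆ p⁻¹ T₀`.  Put `U₀ = D ∪ p⁻¹ T₀`.  If `U₀ ⟶ T` and `p⁻¹ T₀ ⟶ T₀` are isomorphisms on cohomology,
then `τ` acts by `-1` on `H^{q+1}(Y)` and `H^q(T₀) ≃ H^{q+1}(Y)` in the degrees where `T` has no cohomology.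
-/

set_option autoImplicit false
set_option backward.isDefEq.respectTransparency false
set_option backward.isDefEq.respectTransparency.types false
universe u
open CategoryTheory CategoryTheory.Limits AlgebraicGeometry Opposite CategoryTheory.Abelian

namespace Groth.Agent.Vancyc.H685.SwapTop

open Groth.Agent.Etcore.PullCoh
open scoped Groth.Agent.Etcore.EtInst
open Groth.Agent.Etcore.EtInst Groth.Agent.Etcore.HpullCalc Groth.Agent.Etcore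
open Groth.Agent.Sga4B Groth.Agent.Sga4B.HVia

variable {Y T : Scheme.{u}}

theorem hp_subsingleton {X : Scheme.{u}} (f : X ⟶ Y) (G : EtCoh.Ab Y) (n : ℕ)
    (h : Function.Bijective (hp f G n)) (h0 : Subsingleton (HH Y G n)) :
    Subsingleton (HH X ((EtCoh.pull f).obj G) n) := h.2.subsingleton

theorem subsingleton_comp {X Z : Scheme.{u}} (f : X ⟶ Y) (t : Y ⟶ Z) (f₀ : X ⟶ Z) (w : f ≫ t = f₀)
    (G : EtCoh.Ab Z) (n : ℕ) (h : Subsingleton (HH X ((EtCoh.pull f₀).obj G) n)) :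
    Subsingleton (HH X ((EtCoh.pull f).obj ((EtCoh.pull t).obj G)) n) :=
  (Equiv.ofBijective _ (th_bijective f t f₀ w G n)).subsingleton

variable (p : Y ⟶ T) (D : Y.Opens) (T₀ : T.Opens) (τ : Y ⟶ Y)
  (hτp : τ ≫ p = p) (hττ : τ ≫ τ = 𝟙 Y) (hcov : D ⊔ τ ⁻¹ᵁ D = ⊤) (hint : D ⊓ τ ⁻¹ᵁ D ≤ p ⁻¹ᵁ T₀)

/-- `D ∪ p⁻¹ T₀` -/
noncomputable abbrev U₀ : Y.Opens := D ⊔ p ⁻¹ᵁ T₀

/-- `τ⁻¹ U₀` -/
noncomputable abbrev U₁ : Y.Opens := τ ⁻¹ᵁ (U₀ p D T₀)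

/-- `p⁻¹ T₀` -/
noncomputable abbrev V : Y.Opens := p ⁻¹ᵁ T₀

include hτp in
theorem mem_τV (x : Y) : τ x ∈ V p T₀ ↔ x ∈ V p T₀ := by
  change p (τ x) ∈ T₀ ↔ p x ∈ T₀
  have h : p (τ x) = p x := congrArg (fun k : Y ⟶ T => k x) hτp
  rw [h]

include hττ in
theorem ττ_apply (x : Y) : τ (τ x) = x := congrArg (fun k : Y ⟶ Y => k x) hττ

include hτp in
theorem mem_U₁ (x : Y) : x ∈ U₁ p D T₀ τ ↔ x ∈ τ ⁻¹ᵁ D ∨ x ∈ V p T₀ := by
  change τ x ∈ U₀ p D T₀ ↔ _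
  rw [TopologicalSpace.Opens.mem_sup]
  change _ ∨ τ x ∈ V p T₀ ↔ _
  rw [mem_τV p T₀ τ hτp]
  rfl

include hτp hcov in
theorem range_union : Set.range (U₀ p D T₀).ι ∪ Set.range (U₁ p D T₀ τ).ι = Set.univ := by
  rw [Scheme.Opens.range_ι, Scheme.Opens.range_ι, Set.eq_univ_iff_forall]
  intro x
  have hx : x ∈ D ⊔ τ ⁻¹ᵁ D := by
    rw [hcov]
    trivial
  rcases (TopologicalSpace.Opens.mem_sup).1 hx with h | h
  · exact Or.inl ((TopologicalSpace.Opens.mem_sup).2 (Or.inl h))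
  · exact Or.inr ((mem_U₁ p D T₀ τ hτp x).2 (Or.inl h))

include hτp hint in
theorem range_inter : Set.range (V p T₀).ι =
    Set.range (U₀ p D T₀).ι ∩ Set.range (U₁ p D T₀ τ).ι := by
  rw [Scheme.Opens.range_ι, Scheme.Opens.range_ι, Scheme.Opens.range_ι]
  ext x
  constructor
  · intro hx
    exact ⟨(TopologicalSpace.Opens.mem_sup).2 (Or.inr hx), (mem_U₁ p D T₀ τ hτp x).2 (Or.inr hx)⟩
  · rintro ⟨h1, h2⟩
    rcases (TopologicalSpace.Opens.mem_sup).1 h1 with h1 | h1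
    · rcases (mem_U₁ p D T₀ τ hτp x).1 h2 with h2 | h2
      · exact hint ⟨h1, h2⟩
      · exact h2
    · exact h1

theorem range_U₁ : Set.range (U₁ p D T₀ τ).ι = τ ⁻¹' Set.range (U₀ p D T₀).ι := by
  rw [Scheme.Opens.range_ι, Scheme.Opens.range_ι]
  rfl

include hττ in
theorem range_U₀ : Set.range (U₀ p D T₀).ι = τ ⁻¹' Set.range (U₁ p D T₀ τ).ι := by
  rw [Scheme.Opens.range_ι, Scheme.Opens.range_ι]
  ext x
  change x ∈ U₀ p D T₀ ↔ τ (τ x) ∈ U₀ p D T₀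
  rw [ττ_apply τ hττ]

/-- The involution of `V`. -/
noncomputable def τV : (V p T₀ : Scheme.{u}) ⟶ V p T₀ :=
  IsOpenImmersion.lift (V p T₀).ι ((V p T₀).ι ≫ τ) (by
    rintro _ ⟨x, rfl⟩
    rw [Scheme.Opens.range_ι]
    exact (mem_τV p T₀ τ hτp _).2 x.2)

theorem τV_ι : τV p T₀ τ hτp ≫ (V p T₀).ι = (V p T₀).ι ≫ τ := IsOpenImmersion.lift_fac _ _ _

theorem τV_p : τV p T₀ τ hτp ≫ p ∣_ T₀ = p ∣_ T₀ := by
  rw [← cancel_mono T₀.ι, Category.assoc, morphismRestrict_ι, ← Category.assoc, τV_ι, Category.assoc,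
    hτp]

theorem τV_t : τV p T₀ τ hτp ≫ (V p T₀).ι ≫ p = (V p T₀).ι ≫ p := by
  rw [← Category.assoc, τV_ι, Category.assoc, hτp]

variable (G : EtCoh.Ab T)

include hτp hττ in
/-- `U₁ ⟶ T` is an isomorphism on cohomology as `U₀ ⟶ T` is. -/
theorem bijective_U₁ (q : ℕ) (h : Function.Bijective (hp ((U₀ p D T₀).ι ≫ p) G q)) :
    Function.Bijective (hp ((U₁ p D T₀ τ).ι ≫ p) G q) := by
  have i1 : IsIso τ := ⟨τ, hττ, hττ⟩
  have i2 : IsIso (τ ∣_ U₀ p D T₀) := inferInstance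
  refine AcycOpen.bijective_comp (τ ∣_ U₀ p D T₀) ((U₀ p D T₀).ι ≫ p) ((U₁ p D T₀ τ).ι ≫ p) ?_ G q
    (HpVia.hp_bijective_of_isIso _ _ q) h
  rw [← Category.assoc, morphismRestrict_ι, Category.assoc, hτp]

/-- Surjectivity of the relative pull back. -/
theorem surjective_hpVia {X : Scheme.{u}} (f : X ⟶ Y) (t : Y ⟶ T) (f₀ : X ⟶ T) (w : f ≫ t = f₀)
    (q : ℕ) (h : Function.Surjective (hp f ((EtCoh.pull t).obj G) q)) :
    Function.Surjective (hpVia f t f₀ w G q) := by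
  intro x
  obtain ⟨z, hz⟩ := (th_bijective f t f₀ w G q).2 x
  obtain ⟨z', rfl⟩ := h z
  exact ⟨z', (hpVia_eq_th _ _ _ _ _ _ _).trans hz⟩

/-- An endomorphism over `Z` acts trivially on what comes from `Z`. -/
theorem hpVia_triv {X Z : Scheme.{u}} (g : X ⟶ X) (f : X ⟶ Z) (t : Z ⟶ T) (f₀ : X ⟶ T)
    (w : f ≫ t = f₀) (hg : g ≫ f = f) (hg' : g ≫ f₀ = f₀) (q : ℕ)
    (h : Function.Surjective (hp f ((EtCoh.pull t).obj G) q))
    (x : HH X ((EtCoh.pull f₀).obj G) q) : hpVia g f₀ f₀ hg' G q x = x := by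
  obtain ⟨z, rfl⟩ := surjective_hpVia G f t f₀ w q h x
  exact hpVia_comp g f t f f₀ f₀ hg w hg' w G q z

include hτp hττ hcov hint in
/-- **`τ` acts by `-1`.** -/
theorem hpVia_eq_neg (q : ℕ)
    (hU : Function.Bijective (hp ((U₀ p D T₀).ι ≫ p) G (q + 1)))
    (hV : Function.Surjective (hp (p ∣_ T₀) ((EtCoh.pull T₀.ι).obj G) q))
    (h0 : Subsingleton (HH T G (q + 1)))
    (y : HH Y ((EtCoh.pull p).obj G) (q + 1)) :
    hpVia τ p p hτp G (q + 1) y = -y := by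
  have h1 := subsingleton_comp (U₀ p D T₀).ι p _ rfl G _ (hp_subsingleton _ G _ hU h0)
  have h2 := subsingleton_comp (U₁ p D T₀ τ).ι p _ rfl G _
      (hp_subsingleton _ G _ (bijective_U₁ p D T₀ τ hτp hττ G (q + 1) hU) h0)
  have h3 := hpVia_triv G (τV p T₀ τ hτp) (p ∣_ T₀) T₀.ι ((V p T₀).ι ≫ p) (morphismRestrict_ι p T₀)
    (τV_p p T₀ τ hτp) (τV_t p T₀ τ hτp) q hV
  exact MVSwap.hpVia_eq_neg p τ hτp (U₀ p D T₀).ι (U₁ p D T₀ τ).ι (V p T₀).ι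
    (range_inter p D T₀ τ hτp hint) (range_union p D T₀ τ hτp hcov) (range_U₁ p D T₀ τ)
    (range_U₀ p D T₀ τ hττ) (τV p T₀ τ hτp) (τV_ι p T₀ τ hτp) G q h1 h2 (τV_t p T₀ τ hτp) h3 y

/-- Change of the factorization. -/
theorem nonempty_equiv_aux {X Z Z' : Scheme.{u}} (f : X ⟶ Z) (t : Z ⟶ T) (f₀ : X ⟶ T) (w : f ≫ t = f₀)
    (f' : X ⟶ Z') (t' : Z' ⟶ T) (w' : f' ≫ t' = f₀) (q : ℕ)
    (h : Function.Bijective (hp f ((EtCoh.pull t).obj G) q)) :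
    Nonempty (HH Z ((EtCoh.pull t).obj G) q ≃+ HH X ((EtCoh.pull f').obj ((EtCoh.pull t').obj G)) q) :=
  ⟨(AddEquiv.ofBijective _ h).trans ((AddEquiv.ofBijective _ (th_bijective f t f₀ w G q)).trans
    (AddEquiv.ofBijective _ (th_bijective f' t' f₀ w' G q)).symm)⟩

include hτp hττ hcov hint in
/-- The cohomology of `Y` is the shifted cohomology of `T₀`. -/
theorem nonempty_equiv (q : ℕ)
    (hU : ∀ q, Function.Bijective (hp ((U₀ p D T₀).ι ≫ p) G q))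
    (hV : Function.Bijective (hp (p ∣_ T₀) ((EtCoh.pull T₀.ι).obj G) q))
    (h0 : Subsingleton (HH T G q)) (h1 : Subsingleton (HH T G (q + 1))) :
    Nonempty (HH T₀ ((EtCoh.pull T₀.ι).obj G) q ≃+ HH Y ((EtCoh.pull p).obj G) (q + 1)) := by
  have a1 := subsingleton_comp (U₀ p D T₀).ι p _ rfl G _ (hp_subsingleton _ G _ (hU q) h0)
  have a2 := subsingleton_comp (U₁ p D T₀ τ).ι p _ rfl G _
      (hp_subsingleton _ G _ (bijective_U₁ p D T₀ τ hτp hττ G q (hU q)) h0)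
  have a3 := subsingleton_comp (U₀ p D T₀).ι p _ rfl G _ (hp_subsingleton _ G _ (hU (q + 1)) h1)
  have a4 := subsingleton_comp (U₁ p D T₀ τ).ι p _ rfl G _
      (hp_subsingleton _ G _ (bijective_U₁ p D T₀ τ hτp hττ G (q + 1) (hU (q + 1))) h1)
  obtain ⟨e⟩ := MVIso.nonempty_equiv (U₀ p D T₀).ι (U₁ p D T₀ τ).ι (V p T₀).ι
    (range_inter p D T₀ τ hτp hint) (range_union p D T₀ τ hτp hcov) ((EtCoh.pull p).obj G) q a1 a2 a3 a4
  obtain ⟨e'⟩ := nonempty_equiv_aux G (p ∣_ T₀) T₀.ι ((V p T₀).ι ≫ p) (morphismRestrict_ι p T₀)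
    (V p T₀).ι p rfl q hV
  exact ⟨e'.trans e⟩

end Groth.Agent.Vancyc.H685.SwapTop
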