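import Groth.Agent.Vancyc.H685.AcycPoly
import Groth.Agent.Vancyc.H685.SwapTop

/-!
# Cohomology of the family of quadrics `∑ α_i y_i = s (1 - s)` over `T = Spec C`

If `H^{q+1}(T, G) = 0` then `τ` acts by `-1` on `H^{q+1}(Y, G)`; if also `H^q(T, G) = 0` then
`H^{q+1}(Y, G) ≃ H^q(T₀, G)`, `T₀ = ⋃ D(α_i)`.
-/

set_option autoImplicit false
universe u
open CategoryTheory CategoryTheory.Limits AlgebraicGeometry Opposite CategoryTheory.Abelian

namespace Groth.Agent.Vancyc.H685.QuadTop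

open Groth.Agent.Etcore.PullCoh
open scoped Groth.Agent.Etcore.EtInst
open Groth.Agent.Etcore.EtInst Groth.Agent.Etcore.HpullCalc Groth.Agent.Etcore
open Groth.Agent.Sga4B Groth.Agent.Sga4B.HVia Groth.Agent.Vancyc.H685 Groth.Agent.EtpbcB.NKillEt
open Groth.Agent.Vancyc.H685.QuadGeom Groth.Agent.Vancyc.H685.AcycPoly

variable (C : Type u) [CommRing C] {m : ℕ} (α : Fin m → C) {n : ℕ} (hn : IsUnit (n : C))
  (G : EtCoh.Ab (T C)) (hG : EtCoh.KilledBy n G)

theorem cov : D C α ⊔ τ C α ⁻¹ᵁ D C α = ⊤ := by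
  rw [τ_preimage_D, D_sup_D']

theorem inter : D C α ⊓ τ C α ⁻¹ᵁ D C α ≤ p C α ⁻¹ᵁ T₀ C α := by
  rw [τ_preimage_D]
  exact D_inf_D' C α

include hn hG in
theorem bijective_U (q : ℕ) :
    Function.Bijective (hp ((SwapTop.U₀ (p C α) (D C α) (T₀ C α)).ι ≫ p C α) G q) :=
  bijective_U₀ C α hn G hG q

include hn hG in
theorem bijective_V (q : ℕ) :
    Function.Bijective (hp (p C α ∣_ T₀ C α) ((EtCoh.pull (T₀ C α).ι).obj G) q) :=
  AcycOpen.Acyc.hp_bijective (acyc_p_T₀ C α hn) _ (killedBy_pull _ hG) q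

include hn hG in
/-- The involution acts by `-1`. -/
theorem hpVia_τ (q : ℕ) (h0 : Subsingleton (HH (T C) G (q + 1)))
    (y : HH (Y C α) ((EtCoh.pull (p C α)).obj G) (q + 1)) :
    hpVia (τ C α) (p C α) (p C α) (τ_p C α) G (q + 1) y = -y :=
  SwapTop.hpVia_eq_neg (p C α) (D C α) (T₀ C α) (τ C α) (τ_p C α) (τ_τ C α) (cov C α) (inter C α) G q
    (bijective_U C α hn G hG (q + 1)) (bijective_V C α hn G hG q).2 h0 y

include hn hG in
/-- The cohomology of the quadric. -/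
theorem nonempty_equiv (q : ℕ) (h0 : Subsingleton (HH (T C) G q))
    (h1 : Subsingleton (HH (T C) G (q + 1))) :
    Nonempty (HH (T₀ C α) ((EtCoh.pull (T₀ C α).ι).obj G) q ≃+
      HH (Y C α) ((EtCoh.pull (p C α)).obj G) (q + 1)) :=
  SwapTop.nonempty_equiv (p C α) (D C α) (T₀ C α) (τ C α) (τ_p C α) (τ_τ C α) (cov C α) (inter C α) G q
    (bijective_U C α hn G hG) (bijective_V C α hn G hG q) h0 h1

end Groth.Agent.Vancyc.H685.QuadTop
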