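import Groth.Agent.Vancyc.H685.QuadAlg
import Groth.Prelude.Def_VanCyc
import Groth.Prelude.Def_QuadSing

/-!
# The standard even-dimensional affine quadric `∑ x_i y_i = s (1 - s)` over a ring `R`

`stdRing R m = R[x_0, …, x_{m-1}][y, s]/(∑ x_i y_i - s (1 - s))`, its structure morphism `stdStr R m`, the
involution `stdTau R m : s ↦ 1 - s` and the induced involution `fibTau` of a base change.
-/

set_option autoImplicit false
universe u
open CategoryTheory CategoryTheory.Limits AlgebraicGeometry

namespace Groth.Agent.Vancyc.H685.StdModel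

open Groth.Agent.Vancyc.H685

section

variable (R : Type u) [CommRing R] (m : ℕ)

/-- `R[x][y, s]/(∑ x_i y_i - s (1 - s))` -/
abbrev stdRing : Type u :=
  QuadAlg.QR (MvPolynomial (Fin m) R) (fun i : Fin m => MvPolynomial.X i)

/-- The structure morphism of the standard quadric. -/
noncomputable abbrev stdStr : Spec (CommRingCat.of (stdRing R m)) ⟶ Spec (CommRingCat.of R) :=
  Spec.map (CommRingCat.ofHom (algebraMap R (stdRing R m)))

/-- The projection of the standard quadric to the `x`-coordinates. -/
noncomputable abbrev stdProj :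
    Spec (CommRingCat.of (stdRing R m)) ⟶ Spec (CommRingCat.of (MvPolynomial (Fin m) R)) :=
  Spec.map (CommRingCat.ofHom (algebraMap (MvPolynomial (Fin m) R) (stdRing R m)))

/-- The involution `s ↦ 1 - s`. -/
noncomputable abbrev stdTau : Spec (CommRingCat.of (stdRing R m)) ⟶ Spec (CommRingCat.of (stdRing R m)) :=
  Spec.map (CommRingCat.ofHom
    (QuadAlg.tau (MvPolynomial (Fin m) R) (fun i : Fin m => MvPolynomial.X i) :
      stdRing R m →+* stdRing R m))

theorem stdTau_stdProj : stdTau R m ≫ stdProj R m = stdProj R m := by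
  rw [← Spec.map_comp, ← CommRingCat.ofHom_comp]
  congr 2
  exact AlgHom.comp_algebraMap (QuadAlg.tau (MvPolynomial (Fin m) R)
    (fun i : Fin m => MvPolynomial.X i))

theorem stdProj_comp : stdProj R m ≫ Spec.map (CommRingCat.ofHom (algebraMap R (MvPolynomial (Fin m) R))) =
    stdStr R m := by
  rw [← Spec.map_comp, ← CommRingCat.ofHom_comp]

theorem stdTau_stdStr : stdTau R m ≫ stdStr R m = stdStr R m := by
  rw [← stdProj_comp, ← Category.assoc, stdTau_stdProj]

variable (Ω : Type u) [CommRing Ω] [Algebra R Ω]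

/-- The involution of the base change to `Ω`. -/
noncomputable def fibTau : VanCyc.fib R (stdStr R m) Ω ⟶ VanCyc.fib R (stdStr R m) Ω :=
  pullback.map (stdStr R m) (VanCyc.toS R Ω) (stdStr R m) (VanCyc.toS R Ω) (stdTau R m) (𝟙 _) (𝟙 _)
    (by rw [Category.comp_id, stdTau_stdStr]) (by simp)

theorem fibTau_fst : fibTau R m Ω ≫ VanCyc.jA R (stdStr R m) Ω =
    VanCyc.jA R (stdStr R m) Ω ≫ stdTau R m := by
  unfold fibTau
  exact pullback.lift_fst _ _ _

theorem fibTau_snd : fibTau R m Ω ≫ pullback.snd _ _ = pullback.snd _ _ := by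
  unfold fibTau
  rw [pullback.map, pullback.lift_snd, Category.comp_id]

end

end Groth.Agent.Vancyc.H685.StdModel
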